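import Cfsg.Agent.Fusion.RankThreeTwo.Top

/-!
Both models act trivially on the core modulo their Sylow subgroup.
-/

set_option autoImplicit false
set_option linter.unusedSectionVars false
set_option linter.style.haveILetI false

namespace Cfsg.Lib.Fusion.RankThreePair

open Subgroup Cfsg.Lib.Fusion.RankThree
open scoped commutatorElement

universe u

variable {p : ℕ} [hp : Fact p.Prime] {T : Type u} [Group T] [Finite T]

/-- A chief step below a normal subgroup. -/
theorem exists_step (hT : IsPGroup p T) {R0 R : Subgroup T} [R0.Normal] [R.Normal] (h : R0 ≤ R) :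
    ∃ (W : Subgroup T) (r : T), W.Normal ∧ R0 ≤ W ∧ W ≤ R ∧ r ∈ R ∧ R ≤ W ⊔ zpowers r ∧
      (∀ t : T, ∀ x ∈ R, ⁅t, x⁆ ∈ W) ∧ lg p R ≤ lg p W + 1 ∧ (R ≠ R0 → lg p W + 1 ≤ lg p R) := by
  by_cases hne : R = R0
  · exact ⟨R, 1, ‹_›, h, le_rfl, one_mem _, le_sup_left, fun t x hx =>
      mul_mem (Subgroup.Normal.conj_mem ‹_› x hx t) (inv_mem hx), by omega, fun e => absurd hne e⟩
  set P1 := ⁅(⊤ : Subgroup T), R⁆ ⊔ R0
  have hP1 : P1 ≤ R := sup_le (Subgroup.commutator_le_right _ _) h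
  have hP1ne : P1 ≠ R := fun e => hne (le_antisymm (le_of_le_comm_sup hT e.ge) h)
  haveI : Nonempty {W : Subgroup T // P1 ≤ W ∧ W < R} := ⟨⟨P1, le_rfl, lt_of_le_of_ne hP1 hP1ne⟩⟩
  obtain ⟨⟨W, hPW, hWR⟩, hmax⟩ := Finite.exists_max fun W : {W : Subgroup T // P1 ≤ W ∧ W < R} => Nat.card W.1
  have hcomm : ∀ t : T, ∀ x ∈ R, ⁅t, x⁆ ∈ W := fun t x hx =>
    hPW (mem_sup_left (commutator_mem_commutator (mem_top t) hx))
  haveI hWn : W.Normal := ⟨fun w hw t => by
    have h1 := mul_mem (hcomm t w (hWR.le hw)) hw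
    rwa [commutatorElement_def, inv_mul_cancel_right] at h1⟩
  have hbig : ∀ K : Subgroup T, W < K → K ≤ R → K = R := fun K hWK hKR => by
    by_contra hKne
    exact hWK.ne (Subgroup.eq_of_le_of_card_ge hWK.le (hmax ⟨K, hPW.trans hWK.le, lt_of_le_of_ne hKR hKne⟩))
  obtain ⟨K, -, hWK, hKR, hidx⟩ := Cfsg.Lib.PGroups.exists_normal_relIndex_prime hT hWR
  have hKW : W ≠ K := fun e => hp.out.ne_one (by rw [← hidx, e, Subgroup.relIndex_self])
  obtain rfl : K = R := hbig K (lt_of_le_of_ne hWK hKW) hKR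
  obtain ⟨r, hr, hrW⟩ := SetLike.exists_of_lt hWR
  refine ⟨W, r, hWn, le_sup_right.trans hPW, hWR.le, hr, ?_, hcomm, ?_, fun _ => lg_lt hT hWR⟩
  · refine (hbig _ (lt_of_le_of_ne le_sup_left fun e => hrW (e.ge (mem_sup_right (mem_zpowers r))))
      (sup_le hWR.le (zpowers_le.2 hr))).ge
  · have h1 := Subgroup.relIndex_mul_relIndex ⊥ W K bot_le hWK
    rw [Subgroup.relIndex_bot_left, Subgroup.relIndex_bot_left, hidx, card_lg hT W, card_lg hT K,
      ← pow_succ] at h1
    exact (Nat.pow_right_injective hp.out.two_le h1).ge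

theorem map_phi (f : T →* T) (X : Subgroup T) : (phi p X).map f = phi p (X.map f) := by
  rw [phi, phi, Subgroup.map_sup, Subgroup.map_commutator, map_pw]

namespace Duo

variable (P : Duo p T) {D : Subgroup T}

/-- Between the Frattini subgroup of the core and the core, every common invariant step is central. -/
theorem exists_central_step [D.Normal] (hD : P.Core D) (hT : IsPGroup p T) (hr : RankThreeLE p T)
    (F : P.Facts D) {R : Subgroup T} (hR : P.Com R) (hRD : R ≤ D) (hDR : phi p D < R) :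
    ∃ R0, P.Com R0 ∧ phi p D ≤ R0 ∧ R0 < R ∧ ∀ t : T, ∀ x ∈ R, ⁅t, x⁆ ∈ R0 := by
  have hphi : P.Com (phi p D) :=
    ⟨fun i => (P.mdl i).inv_phi (hD.com.1 i), fun b hb => by rw [map_phi, hD.com.2 b hb]⟩
  haveI : Nonempty {R0 // P.Com R0 ∧ phi p D ≤ R0 ∧ R0 < R} := ⟨⟨_, hphi, le_rfl, hDR⟩⟩
  obtain ⟨⟨R0, hR0, hle0, hlt⟩, hmax⟩ :=
    Finite.exists_max fun R0 : {R0 // P.Com R0 ∧ phi p D ≤ R0 ∧ R0 < R} => Nat.card R0.1
  have hbetween : ∀ X, P.Com X → R0 ≤ X → X ≤ R → X = R0 ∨ X = R := fun X hX h1 h2 => by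
    refine or_iff_not_imp_right.2 fun hne => (Subgroup.eq_of_le_of_card_ge h1 ?_).symm
    exact hmax ⟨X, hX, hle0.trans h1, lt_of_le_of_ne h2 hne⟩
  refine ⟨R0, hR0, hle0, hlt, ?_⟩
  haveI := hR.normal P
  haveI := hR0.normal P
  have hRc : ∀ a ∈ R, ∀ b ∈ R, ⁅a, b⁆ ∈ R0 := fun a ha b hb =>
    hle0 (mem_sup_left (commutator_mem_commutator (hRD ha) (hRD hb)))
  have hRp : ∀ a ∈ R, a ^ p ∈ R0 := fun a ha => hle0 (mem_sup_right (pow_mem_pw (hRD ha)))
  -- the centraliser of the step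
  let C : Subgroup T :=
    { carrier := {c | ∀ x ∈ R, ⁅c, x⁆ ∈ R0}
      one_mem' := fun x _ => by rw [commutatorElement_one_left]; exact one_mem _
      mul_mem' := fun {a b} ha hb x hx => by
        rw [Cfsg.Lib.PGroups.mul_left_commutator]
        exact mul_mem (Subgroup.Normal.conj_mem ‹_› _ (hb x hx) a) (ha x hx)
      inv_mem' := fun {a} ha x hx => by
        rw [show ⁅a⁻¹, x⁆ = a⁻¹ * ⁅a, x⁆⁻¹ * a⁻¹⁻¹ by simp only [commutatorElement_def]; group]
        exact Subgroup.Normal.conj_mem ‹_› _ (inv_mem (ha x hx)) a⁻¹ }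
  suffices hC : C = ⊤ from fun t x hx => (hC.ge (mem_top t)) x hx
  haveI hCn : C.Normal := ⟨fun c hc t x hx => by
    rw [show ⁅t * c * t⁻¹, x⁆ = t * ⁅c, t⁻¹ * x * t⁆ * t⁻¹ by simp only [commutatorElement_def]; group]
    refine Subgroup.Normal.conj_mem ‹_› _ (hc _ ?_) t
    simpa using Subgroup.Normal.conj_mem ‹R.Normal› x hx t⁻¹⟩
  have hDC : D ≤ C := fun d hd x hx => hle0 (mem_sup_left (commutator_mem_commutator hd (hRD hx)))
  have hCi : ∀ i, (P.mdl i).Inv (C ⊓ (P.mdl i).E) := fun i => ⟨inf_le_right, fun g c hc =>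
    ⟨fun x hx => by
      have hxE := (hR.1 i).1 hx
      have h1 := (hR0.1 i).2 g _ (hc.1 _ ((hR.1 i).2 g⁻¹ x hx))
      rwa [(P.mdl i).cj_comm hc.2 ((P.mdl i).cj_mem hxE), (P.mdl i).cj_cj_inv hxE] at h1,
    (P.mdl i).cj_mem hc.2⟩⟩
  by_cases hCH : C ≤ P.H
  swap
  · -- the centraliser contains the intersection
    set M := ⁅(⊤ : Subgroup T), ⊤⁆ ⊔ C
    haveI : M.Normal := @Subgroup.sup_normal _ _ _ _ inferInstance hCn
    have hHM : P.H ≤ M := F.H_le.trans (sup_le_sup_left hDC _)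
    have hM1 : lg p P.H + 1 ≤ lg p M := lg_lt hT (lt_of_le_of_ne hHM fun e =>
      hCH (le_sup_right.trans e.ge))
    have htop : lg p (⊤ : Subgroup T) = lg p P.H + 2 := by rw [P.lg_top hT false, P.lg_E hT]
    obtain ⟨t, ht⟩ : ∃ t, M ⊔ zpowers t = ⊤ := by
      by_cases hMt : M = ⊤
      · exact ⟨1, by rw [hMt, top_sup_eq]⟩
      obtain ⟨t, -, ht⟩ := SetLike.exists_of_lt (lt_top_iff_ne_top.2 hMt)
      refine ⟨t, eq_of_lg hT le_top ?_⟩
      have := lg_lt hT (lt_of_le_of_ne (le_sup_left : M ≤ M ⊔ zpowers t) fun e =>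
        ht (e.ge (mem_sup_right (mem_zpowers t))))
      omega
    set J := ⁅(⊤ : Subgroup T), ⁅(⊤ : Subgroup T), ⊤⁆⁆ ⊔ C
    haveI : J.Normal := @Subgroup.sup_normal _ _ _ _ inferInstance hCn
    set π := QuotientGroup.mk' J
    have hT' : ⁅(⊤ : Subgroup T), ⊤⁆ ≤ J := by
      have hcen : ∀ m ∈ M, π m ∈ center (T ⧸ J) := by
        have hle : M ≤ (center (T ⧸ J)).comap π := sup_le
          (fun m hm => mem_center_iff.2 fun z => by
            obtain ⟨z, rfl⟩ := QuotientGroup.mk'_surjective J z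
            rw [← commutatorElement_eq_one_iff_mul_comm, ← map_commutatorElement]
            exact (QuotientGroup.eq_one_iff _).2 (mem_sup_left (commutator_mem_commutator (mem_top z) hm)))
          fun c hc => by
            rw [mem_comap, show π c = 1 from (QuotientGroup.eq_one_iff c).2 (mem_sup_right hc)]
            exact one_mem _
        exact fun m hm => hle hm
      have hall : ∀ z : T, ∃ k : ℤ, ∃ c ∈ center (T ⧸ J), π z = π t ^ k * c := fun z => by
        obtain ⟨k, m, hm, rfl⟩ := mem_sup_zpowers (ht.ge (mem_top z))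
        exact ⟨k, π m, hcen m hm, by rw [map_mul, map_zpow]⟩
      refine Subgroup.commutator_le.2 fun a _ b _ => (QuotientGroup.eq_one_iff _).1 ?_
      show π _ = 1
      rw [map_commutatorElement, commutatorElement_eq_one_iff_commute]
      obtain ⟨k, c, hc, ha⟩ := hall a
      obtain ⟨l, d, hd, hb⟩ := hall b
      rw [ha, hb]
      exact (((Commute.refl _).zpow_zpow k l).mul_right (mem_center_iff.1 hd _)).mul_left
        (mem_center_iff.1 hc _).symm
    have hTC : ⁅(⊤ : Subgroup T), ⊤⁆ ≤ C := le_of_le_comm_sup hT hT'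
    have hHC : P.H ≤ C := F.H_le.trans (sup_le hTC hDC)
    by_contra hne
    obtain ⟨i, hi⟩ : ∃ i, C ≠ (P.mdl i).E := by
      by_contra h
      push Not at h
      exact P.ne ((h false).symm.trans (h true))
    have hne2 : C ⊓ (P.mdl i).E ≠ (P.mdl i).E := fun e => by
      have hEC : (P.mdl i).E ≤ C := inf_eq_right.1 e
      obtain ⟨x, hx, hxE⟩ := SetLike.exists_of_lt (lt_of_le_of_ne hEC (Ne.symm hi))
      exact hne ((P.mdl i).eq_top_of_lt hEC hx hxE)
    have hCE : C ⊓ (P.mdl i).E = P.H := by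
      by_contra h
      exact hne2 (P.eq_of_H_lt hT i inf_le_right (le_inf hHC (P.H_le i)) h)
    exact F.not_inv i (hCE ▸ hCi i)
  exfalso
  -- the centraliser is the core: the action is faithful
  have hCD : C = D := le_antisymm (hD.max C ⟨fun i => by
      have h1 := hCi i
      rwa [inf_eq_left.2 (hCH.trans (P.H_le i))] at h1, fun b hb => by
    refine Subgroup.eq_of_le_of_card_ge ?_ (Subgroup.card_map_of_injective (f := b.toMonoidHom) b.injective).ge
    rintro _ ⟨c, hc, rfl⟩ x hx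
    obtain ⟨w, hw, rfl⟩ := (hR.2 b hb).ge hx
    exact (hR0.2 b hb).le ⟨_, hc w hw, map_commutatorElement b.toMonoidHom c w⟩⟩) hDC
  obtain ⟨W, r, hWn, hR0W, hWR, hr', hgenR, hcR, lR1, lR2⟩ := exists_step (p := p) hT hlt.le
  obtain ⟨U, s, hUn, hR0U, hUW, hs, hgenW, hcW, lW1, lW2⟩ := exists_step (p := p) hT hR0W
  have lR : lg p R ≤ 3 + lg p R0 := lg_rank hT hr hlt.le hRc hRp
  have lD : lg p D ≤ 3 + lg p R0 := (lg_phi hT hr D).trans (by have := lg_mono (p := p) hle0; omega)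
  have lW : lg p W + 1 ≤ lg p R := lR2 hlt.ne'
  have lU : lg p U ≤ lg p R0 + 1 ∧ (lg p R0 < lg p W → lg p U + 1 ≤ lg p W) := by
    by_cases h : W = R0
    · have h1 := lg_mono (p := p) hUW
      rw [h] at h1 ⊢
      exact ⟨by omega, fun h' => absurd h' (lt_irrefl _)⟩
    · have h1 := lW2 h
      exact ⟨by omega, fun _ => h1⟩
  set π := QuotientGroup.mk' R0 with hπ
  have hπ1 : ∀ {z : T}, π z = 1 ↔ z ∈ R0 := fun {z} => QuotientGroup.eq_one_iff z
  have hcU : ∀ t : T, ∀ x ∈ U, Commute (π t) (π x) := fun t x hx => by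
    rw [← commutatorElement_eq_one_iff_commute, ← map_commutatorElement, hπ1]
    exact comm_le_of_lg hT hR0U lU.1 t hx
  have hcRR : ∀ a ∈ R, ∀ b ∈ R, Commute (π a) (π b) := fun a ha b hb => by
    rw [← commutatorElement_eq_one_iff_commute, ← map_commutatorElement, hπ1]
    exact hRc a ha b hb
  let Φ : T ⧸ D → (W.map π) × (U.map π) := fun q =>
    (⟨π ⁅q.out, r⁆, mem_map_of_mem π (hcR _ r hr')⟩, ⟨π ⁅q.out, s⁆, mem_map_of_mem π (hcW _ s hs)⟩)
  have hΦ : Function.Injective Φ := by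
    intro a b hab
    have h1 : π ⁅a.out, r⁆ = π ⁅b.out, r⁆ := congrArg (fun z => ((z.1 : W.map π) : T ⧸ R0)) hab
    have h2 : π ⁅a.out, s⁆ = π ⁅b.out, s⁆ := congrArg (fun z => ((z.2 : U.map π) : T ⧸ R0)) hab
    have hfix : ∀ x : T, π ⁅a.out, x⁆ = π ⁅b.out, x⁆ → Commute (π (b.out⁻¹ * a.out)) (π x) := fun x hx => by
      rw [map_commutatorElement, map_commutatorElement, commutatorElement_def, commutatorElement_def,
        mul_left_inj] at hx
      have h3 := congrArg (fun z => (π b.out)⁻¹ * z * π a.out) hx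
      simp only [mul_assoc, inv_mul_cancel, mul_one, inv_mul_cancel_left] at h3
      show _ = _
      rw [map_mul, map_inv, mul_assoc]
      exact h3
    set c := b.out⁻¹ * a.out
    have hmem : c ∈ C := fun x hx => by
      have hle : R ≤ (centralizer {π c}).comap π := hgenR.trans (sup_le
        (hgenW.trans (sup_le (fun u hu => mem_centralizer_singleton_iff.2 (hcU c u hu).eq.symm)
          (zpowers_le.2 (mem_centralizer_singleton_iff.2 (hfix s h2).eq.symm))))
        (zpowers_le.2 (mem_centralizer_singleton_iff.2 (hfix r h1).eq.symm)))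
      rw [← hπ1, map_commutatorElement, commutatorElement_eq_one_iff_mul_comm]
      exact (mem_centralizer_singleton_iff.1 (hle hx)).symm
    have := QuotientGroup.eq.2 (hCD.le hmem : b.out⁻¹ * a.out ∈ D)
    rwa [QuotientGroup.out_eq', QuotientGroup.out_eq', eq_comm] at this
  have hTD : Nat.card (T ⧸ D) * Nat.card D = Nat.card T := (Subgroup.card_eq_card_quotient_mul_card_subgroup D).symm
  have lTop : lg p (⊤ : Subgroup T) = lg p P.H + 2 := by rw [P.lg_top hT false, P.lg_E hT]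
  have lWπ : lg p (W.map π) + lg p R0 = lg p W := lg_map_mk hT R0 hR0W
  have lUπ : lg p (U.map π) + lg p R0 = lg p U := lg_map_mk hT R0 hR0U
  have hcnt : Nat.card (T ⧸ D) ≤ Nat.card (W.map π) * Nat.card (U.map π) :=
    (Nat.card_le_card_of_injective Φ hΦ).trans (Nat.card_prod _ _).le
  have hq : Nat.card (T ⧸ D) = p ^ lg p ((⊤ : Subgroup (T ⧸ D))) :=
    Subgroup.card_top.symm.trans (card_lg (hT.to_quotient D) ⊤)
  have lq : lg p (⊤ : Subgroup (T ⧸ D)) + lg p D = lg p P.H + 2 := by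
    have h1 := lg_map_mk hT D (A := (⊤ : Subgroup T)) le_top
    rwa [Subgroup.map_top_of_surjective _ (QuotientGroup.mk'_surjective D), lTop] at h1
  have lcnt : lg p (⊤ : Subgroup (T ⧸ D)) ≤ lg p (W.map π) + lg p (U.map π) := by
    have h1 := hcnt
    rw [hq, card_lg (hT.to_quotient R0) (W.map π), card_lg (hT.to_quotient R0) (U.map π), ← pow_add] at h1
    exact (Nat.pow_le_pow_iff_right hp.out.one_lt).1 h1
  have lDH : lg p D + 1 ≤ lg p P.H := by
    rcases F.cases with h | ⟨i, h⟩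
    · exact h.1.ge
    · have := h.lg_H; omega
  have hsmall : P.IsSmall D := by
    rcases F.cases with h | ⟨i, h⟩
    · exact h
    · exfalso
      have := h.lg_H
      have := lU.2
      have := lg_mono (p := p) hUW
      omega
  have hH1 := hsmall.1
  have hWl : lg p W = lg p R0 + 2 := by
    have := lU.1
    have := lU.2
    omega
  have hUl : lg p U = lg p R0 + 1 := by
    have := lU.1
    omega
  have hRl : lg p R = lg p R0 + 3 := by omega
  obtain rfl : R = D := eq_of_lg hT hRD (by omega)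
  have hsurj : Function.Surjective Φ := (hΦ.bijective_of_nat_card_le (by
    rw [Nat.card_prod, card_lg (hT.to_quotient R0) (W.map π), card_lg (hT.to_quotient R0) (U.map π), hq,
      ← pow_add]
    exact Nat.pow_le_pow_right hp.out.pos (by omega))).2
  obtain ⟨u0, hu0, hu0'⟩ : ∃ u ∈ U, u ∉ R0 := exists_not_mem_of_card (A := R0) (B := U) (by
    rw [card_lg hT R0, card_lg hT U]
    exact Nat.pow_lt_pow_right hp.out.one_lt (by omega))
  obtain ⟨q1, hq1⟩ := hsurj (⟨π s, mem_map_of_mem π hs⟩, 1)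
  obtain ⟨q2, hq2⟩ := hsurj (1, ⟨π u0, mem_map_of_mem π hu0⟩)
  have h11 : π ⁅q1.out, r⁆ = π s := congrArg (fun z => ((z.1 : W.map π) : T ⧸ R0)) hq1
  have h12 : π ⁅q1.out, s⁆ = 1 := congrArg (fun z => ((z.2 : U.map π) : T ⧸ R0)) hq1
  have h22 : π ⁅q2.out, s⁆ = π u0 := congrArg (fun z => ((z.2 : U.map π) : T ⧸ R0)) hq2
  -- the commutator with a product
  have hcalc : ∀ (t x w z : T) (k : ℤ), x ∈ R → w ∈ R → z ∈ R → π ⁅t, x⁆ = π z → π ⁅t, w⁆ = 1 →
      π ⁅t, x ^ k * w⁆ = π z ^ k := by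
    intro t x w z k hx hw hz h1 h2
    rw [map_commutatorElement] at h1 h2 ⊢
    rw [map_mul, map_zpow, Cfsg.Lib.PGroups.mul_right_commutator, h2, mul_one, mul_inv_cancel, mul_one,
      commutatorElement_def, ← conj_zpow, show π t * π x * (π t)⁻¹ = π z * π x by
        rw [← h1, commutatorElement_def, inv_mul_cancel_right],
      (hcRR z hz x hx).mul_zpow, mul_inv_cancel_right]
  have hser : ∀ X : Subgroup T, X.Normal → R0 ≤ X → X ≤ R → X = R0 ∨ X = U ∨ X = W ∨ X = R := by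
    have low : ∀ X : Subgroup T, X.Normal → R0 ≤ X → X ≤ W → X = R0 ∨ X = U ∨ X = W := by
      intro X hX h0 hXW
      by_cases hXU : X ≤ U
      · by_cases h : X = R0
        · exact Or.inl h
        · have := lg_lt hT (lt_of_le_of_ne h0 (Ne.symm h))
          exact Or.inr (Or.inl (eq_of_lg hT hXU (by omega)))
      · refine Or.inr (Or.inr ?_)
        obtain ⟨v, hv, hvU⟩ := SetLike.not_le_iff_exists.1 hXU
        obtain ⟨k, w, hw, hvk⟩ := mem_sup_zpowers (hgenW (hXW hv))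
        have hk : ¬ (p : ℤ) ∣ k := by
          rintro ⟨l, rfl⟩
          refine hvU (hvk ▸ mul_mem ?_ hw)
          rw [zpow_mul, zpow_natCast]
          exact zpow_mem (hR0U (hRp s (hWR hs))) l
        have h1 := hcalc q2.out s w u0 k (hWR hs) (hWR (hUW hw)) (hWR (hUW hu0)) h22
          (hπ1.2 (comm_le_of_lg hT hR0U lU.1 _ hw))
        rw [← hvk, ← map_zpow] at h1
        have h2 : u0 ^ k ∈ X := by
          have h3 : ⁅q2.out, v⁆ ∈ X := mul_mem (hX.conj_mem v hv _) (inv_mem hv)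
          have h4 := QuotientGroup.eq.1 h1
          have h5 := mul_mem h3 (h0 h4)
          rwa [mul_inv_cancel_left] at h5
        have hu0X : u0 ∈ X := mem_of_zpow_mem (h0 (hRp u0 (hWR (hUW hu0)))) hk h2
        have hUX : U ≤ X := by
          have h5 : R0 ⊔ zpowers u0 = U := eq_of_lg hT (sup_le hR0U (zpowers_le.2 hu0)) (by
            have := lg_lt hT (lt_of_le_of_ne (le_sup_left : R0 ≤ R0 ⊔ zpowers u0) fun e =>
              hu0' (e.ge (mem_sup_right (mem_zpowers u0))))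
            omega)
          exact h5 ▸ sup_le h0 (zpowers_le.2 hu0X)
        have := lg_lt hT (lt_of_le_of_ne hUX fun e => hvU (e.ge hv))
        exact eq_of_lg hT hXW (by omega)
    intro X hX h0 hXR
    by_cases hXW : X ≤ W
    · rcases low X hX h0 hXW with h | h | h
      · exact Or.inl h
      · exact Or.inr (Or.inl h)
      · exact Or.inr (Or.inr (Or.inl h))
    refine Or.inr (Or.inr (Or.inr ?_))
    obtain ⟨v, hv, hvW⟩ := SetLike.not_le_iff_exists.1 hXW
    obtain ⟨k, w, hw, hvk⟩ := mem_sup_zpowers (hgenR (hXR hv))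
    have hk : ¬ (p : ℤ) ∣ k := by
      rintro ⟨l, rfl⟩
      refine hvW (hvk ▸ mul_mem ?_ hw)
      rw [zpow_mul, zpow_natCast]
      exact zpow_mem (hR0W (hRp r hr')) l
    have hw1 : π ⁅q1.out, w⁆ = 1 := by
      have hle : W ≤ (centralizer {π q1.out}).comap π := hgenW.trans (sup_le
        (fun u hu => mem_centralizer_singleton_iff.2 (hcU _ u hu).eq.symm)
        (zpowers_le.2 (mem_centralizer_singleton_iff.2 (by
          rw [map_commutatorElement, commutatorElement_eq_one_iff_mul_comm] at h12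
          exact h12.symm))))
      rw [map_commutatorElement, commutatorElement_eq_one_iff_mul_comm]
      exact (mem_centralizer_singleton_iff.1 (hle hw)).symm
    have h1 := hcalc q1.out r w s k hr' (hWR hw) (hWR hs) h11 hw1
    rw [← hvk, ← map_zpow] at h1
    have h2 : s ^ k ∈ X := by
      have h3 : ⁅q1.out, v⁆ ∈ X := mul_mem (hX.conj_mem v hv _) (inv_mem hv)
      have h5 := mul_mem h3 (h0 (QuotientGroup.eq.1 h1))
      rwa [mul_inv_cancel_left] at h5
    have hsX : s ∈ X := mem_of_zpow_mem (h0 (hRp s (hWR hs))) hk h2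
    have hsU : s ∉ U := fun h => by
      have := lg_mono (p := p) (hgenW.trans (sup_le le_rfl (zpowers_le.2 h)))
      omega
    rcases low (X ⊓ W) (@Subgroup.normal_inf_normal _ _ _ _ hX hWn) (le_inf h0 hR0W) inf_le_right with h | h | h
    · exact absurd (hR0U (h.le ⟨hsX, hs⟩)) hsU
    · exact absurd (h.le ⟨hsX, hs⟩) hsU
    · have := lg_lt hT (lt_of_le_of_ne (inf_eq_right.1 h) fun e => hvW (e.ge hv))
      exact eq_of_lg hT hXR (by omega)
  -- the fixed points of one of the subgroups are the line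
  have hnotcom : ∀ X : Subgroup T, X.Normal → R0 < X → X < R → ¬ ((P.mdl false).Inv X ∧ (P.mdl true).Inv X) := by
    rintro X hX h0 h1 ⟨ha, hb⟩
    have hcomX : P.Com X := ⟨Bool.forall_bool.2 ⟨ha, hb⟩, fun β hβ => by
      have hXn : (X.map β.toMonoidHom).Normal := hX.map _ β.surjective
      have hl : lg p (X.map β.toMonoidHom) = lg p X := by
        rw [lg, lg, Subgroup.card_map_of_injective (f := β.toMonoidHom) β.injective]
      have hX3 := hser X hX h0.le h1.le
      have hβ3 := hser (X.map β.toMonoidHom) hXn ((hR0.2 β hβ).ge.trans (Subgroup.map_mono h0.le))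
        ((Subgroup.map_mono h1.le).trans (hR.2 β hβ).le)
      rcases hX3 with e | e | e | e <;> rcases hβ3 with e' | e' | e' | e' <;>
        first | exact e'.trans e.symm | (rw [e'] at hl; rw [e] at hl; omega)⟩
    rcases hbetween X hcomX h0.le h1.le with e | e
    · exact h0.ne' e
    · exact h1.ne e
  have hR0U' : R0 < U := lt_of_le_of_ne hR0U fun e => by rw [← e] at hUl; omega
  have hUW' : U < W := lt_of_le_of_ne hUW fun e => by rw [e] at hUl; omega
  have hWR' : W < R := lt_of_le_of_ne hWR fun e => by rw [e] at hWl; omega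
  let Fi : Bool → Subgroup T := fun i =>
    { carrier := {x | x ∈ R ∧ ∀ e ∈ (P.mdl i).E, ⁅e, x⁆ ∈ R0}
      one_mem' := ⟨one_mem _, fun e _ => by rw [commutatorElement_one_right]; exact one_mem _⟩
      mul_mem' := fun {a b} ha hb => ⟨mul_mem ha.1 hb.1, fun e he => by
        rw [Cfsg.Lib.PGroups.mul_right_commutator]
        exact mul_mem (ha.2 e he) (Subgroup.Normal.conj_mem ‹_› _ (hb.2 e he) a)⟩
      inv_mem' := fun {a} ha => ⟨inv_mem ha.1, fun e he => by
        rw [show ⁅e, a⁻¹⁆ = a⁻¹ * ⁅e, a⁆⁻¹ * a⁻¹⁻¹ by simp only [commutatorElement_def]; group]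
        exact Subgroup.Normal.conj_mem ‹_› _ (inv_mem (ha.2 e he)) a⁻¹⟩ }
  have hFi : ∀ i, (P.mdl i).Inv (Fi i) ∧ (Fi i = U ∨ Fi i = W) := fun i => by
    have hinv : (P.mdl i).Inv (Fi i) := ⟨fun x hx => (hR.1 i).1 hx.1, fun g x hx => ⟨(hR.1 i).2 g x hx.1,
      fun e he => by
        have hxE := (hR.1 i).1 hx.1
        have := (hR0.1 i).2 g _ (hx.2 _ ((P.mdl i).cj_mem (g := g⁻¹) he))
        rwa [(P.mdl i).cj_comm ((P.mdl i).cj_mem he) hxE, (P.mdl i).cj_cj_inv he] at this⟩⟩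
    have hUF : U ≤ Fi i := fun x hx => ⟨hWR (hUW hx), fun e _ => comm_le_of_lg hT hR0U lU.1 e hx⟩
    refine ⟨hinv, ?_⟩
    rcases hser (Fi i) ((P.mdl i).inv_normal hinv) (hR0U.trans hUF) (fun x hx => hx.1) with h | h | h | h
    · exact absurd (hUF.trans h.le) hR0U'.not_ge
    · exact Or.inl h
    · exact Or.inr h
    · have hEC : (P.mdl i).E ≤ C := fun e he x hx => (h.ge hx).2 e he
      have hl1 := lg_mono (p := p) (hEC.trans hCD.le)
      have hl2 := P.lg_E hT i
      omega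
  obtain ⟨b, hFb, hWb⟩ : ∃ b, Fi b = U ∧ ¬ (P.mdl b).Inv W := by
    rcases (hFi false).2 with h | h <;> rcases (hFi true).2 with h' | h'
    · exact absurd ⟨h ▸ (hFi false).1, h' ▸ (hFi true).1⟩ (hnotcom U hUn hR0U' (hUW'.trans hWR'))
    · exact ⟨false, h, fun hi => hnotcom W hWn (hR0U'.trans hUW') hWR' ⟨hi, h' ▸ (hFi true).1⟩⟩
    · exact ⟨true, h', fun hi => hnotcom W hWn (hR0U'.trans hUW') hWR' ⟨h ▸ (hFi false).1, hi⟩⟩
    · exact absurd ⟨h ▸ (hFi false).1, h' ▸ (hFi true).1⟩ (hnotcom W hWn (hR0U'.trans hUW') hWR')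
  set Mb := P.mdl b
  have hUi : Mb.Inv U := hFb ▸ (hFi b).1
  have hW2 : ∀ e ∈ Mb.E, ∀ d ∈ R, ⁅e, d⁆ ∈ U := by
    have hinv := Mb.inv_sup (Mb.inv_commutator Mb.inv_E (hR.1 b)) (hR0.1 b)
    have hle : ⁅Mb.E, R⁆ ⊔ R0 ≤ W := sup_le (Subgroup.commutator_le.2 fun e _ d hd => hcR e d hd) hR0W
    intro e he d hd
    have hmem : ⁅e, d⁆ ∈ ⁅Mb.E, R⁆ ⊔ R0 := mem_sup_left (commutator_mem_commutator he hd)
    rcases hser _ (Mb.inv_normal hinv) le_sup_right (hle.trans hWR) with h | h | h | h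
    · exact hR0U (h.le hmem)
    · exact h.le hmem
    · exact absurd (h ▸ hinv) hWb
    · exact absurd (h.ge.trans hle) hWR'.not_ge
  have hXD : phi p Mb.E ≤ R := le_sup_left.trans (hsmall.2 b).le
  have hEc : ∀ a ∈ Mb.E, ∀ c ∈ Mb.E, ⁅a, c⁆ ∈ R := fun a ha c hc => hXD (mem_sup_left (commutator_mem_commutator ha hc))
  have hEp : ∀ a ∈ Mb.E, a ^ p ∈ R := fun a ha => hXD (mem_sup_right (pow_mem_pw ha))
  have hRE : R ≤ Mb.E := (hR.1 b).1
  have lE : lg p Mb.E = lg p R0 + 5 := by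
    have : lg p Mb.E = lg p P.H + 1 := P.lg_E hT b
    omega
  -- the derived subgroup lies in the line
  set σ := QuotientGroup.mk' U
  have hσ1 : ∀ {z : T}, σ z = 1 ↔ z ∈ U := fun {z} => QuotientGroup.eq_one_iff z
  have hσc : ∀ e ∈ Mb.E, ∀ d ∈ R, Commute (σ e) (σ d) := fun e he d hd => by
    rw [← commutatorElement_eq_one_iff_commute, ← map_commutatorElement, hσ1]
    exact hW2 e he d hd
  obtain ⟨e1, he1, he1'⟩ := exists_not_mem_of_card (A := R) (B := Mb.E) (by
    rw [card_lg hT R, card_lg hT Mb.E]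
    exact Nat.pow_lt_pow_right hp.out.one_lt (by omega))
  obtain ⟨e2, he2, he2'⟩ : ∃ e ∈ Mb.E, e ∉ R ⊔ zpowers e1 := by
    by_contra h
    push Not at h
    have hlg : lg p (R ⊔ zpowers e1) ≤ lg p R + 1 := by
      have h1 := lg_sup (p := p) hT R (zpowers e1)
      have h2 : zpowers (e1 ^ p) ≤ R ⊓ zpowers e1 := zpowers_le.2 ⟨hEp e1 he1, pow_mem (mem_zpowers e1) p⟩
      have h3 : lg p (zpowers e1) ≤ lg p (zpowers (e1 ^ p)) + 1 := by
        have h4 : Nat.card (zpowers e1) ≤ p * Nat.card (zpowers (e1 ^ p)) := by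
          rw [Nat.card_zpowers, Nat.card_zpowers]
          refine Nat.le_of_dvd (Nat.mul_pos hp.out.pos (orderOf_pos _)) (orderOf_dvd_of_pow_eq_one ?_)
          rw [pow_mul, pow_orderOf_eq_one]
        rw [card_lg hT, card_lg hT, ← pow_succ'] at h4
        exact (Nat.pow_le_pow_iff_right hp.out.one_lt).1 h4
      have := lg_mono (p := p) h2
      omega
    have := lg_mono (p := p) (h : Mb.E ≤ R ⊔ zpowers e1)
    omega
  have hgenE : Mb.E = R ⊔ zpowers e1 ⊔ zpowers e2 := (eq_of_lg hT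
    (sup_le (sup_le hRE (zpowers_le.2 he1)) (zpowers_le.2 he2)) (by
      have h1 := lg_lt hT (lt_of_le_of_ne (le_sup_left : R ≤ R ⊔ zpowers e1) fun e =>
        he1' (e.ge (mem_sup_right (mem_zpowers e1))))
      have h2 := lg_lt hT (lt_of_le_of_ne (le_sup_left : R ⊔ zpowers e1 ≤ R ⊔ zpowers e1 ⊔ zpowers e2)
        fun e => he2' (e.ge (mem_sup_right (mem_zpowers e2))))
      omega)).symm
  set c0 := ⁅e1, e2⁆
  set Z := zpowers (σ c0)
  have hc0 : c0 ∈ R := hEc e1 he1 e2 he2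
  have hcomc : ∀ a ∈ Mb.E, ∀ c ∈ Mb.E, ⁅σ a, σ c⁆ ∈ Z := by
    have hZc : ∀ a ∈ Mb.E, ∀ z ∈ Z, Commute (σ a) z := fun a ha z hz => by
      obtain ⟨k, rfl⟩ := hz
      exact (hσc a ha c0 hc0).zpow_right k
    let Z1 : T → Subgroup T := fun c =>
      { carrier := {a | a ∈ Mb.E ∧ ⁅σ a, σ c⁆ ∈ Z}
        one_mem' := ⟨one_mem _, by rw [map_one, commutatorElement_one_left]; exact one_mem _⟩
        mul_mem' := fun {a d} ha hd => ⟨mul_mem ha.1 hd.1, by
          rw [map_mul, Cfsg.Lib.PGroups.mul_left_commutator, (hZc a ha.1 _ hd.2).eq, mul_inv_cancel_right]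
          exact mul_mem hd.2 ha.2⟩
        inv_mem' := fun {a} ha => ⟨inv_mem ha.1, by
          rw [map_inv, show ⁅(σ a)⁻¹, σ c⁆ = (σ a)⁻¹ * ⁅σ a, σ c⁆⁻¹ * σ a by
            simp only [commutatorElement_def]; group,
            (hZc a ha.1 _ (inv_mem ha.2)).inv_left.eq, inv_mul_cancel_right]
          exact inv_mem ha.2⟩ }
    have hR1 : ∀ c ∈ Mb.E, R ≤ Z1 c := fun c hc d hd => ⟨hRE hd, by
      rw [commutatorElement_eq_one_iff_commute.2 (hσc c hc d hd).symm]; exact one_mem _⟩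
    have hz12 : ⁅σ e1, σ e2⁆ ∈ Z := by rw [← map_commutatorElement]; exact mem_zpowers _
    have hgens : ∀ c ∈ Mb.E, ⁅σ e1, σ c⁆ ∈ Z → ⁅σ e2, σ c⁆ ∈ Z → Mb.E ≤ Z1 c := fun c hc h1 h2 =>
      hgenE.le.trans (sup_le (sup_le (hR1 c hc) (zpowers_le.2 ⟨he1, h1⟩)) (zpowers_le.2 ⟨he2, h2⟩))
    have hz1 := hgens e1 he1 (by rw [commutatorElement_self]; exact one_mem _)
      (by rw [← commutatorElement_inv]; exact inv_mem hz12)
    have hz2 := hgens e2 he2 hz12 (by rw [commutatorElement_self]; exact one_mem _)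
    intro a ha c hc
    exact (hgens c hc (by rw [← commutatorElement_inv]; exact inv_mem (hz1 hc).2)
      (by rw [← commutatorElement_inv]; exact inv_mem (hz2 hc).2) ha).2
  have hKU : ∀ a ∈ Mb.E, ∀ c ∈ Mb.E, ⁅a, c⁆ ∈ U := by
    set K := ⁅Mb.E, Mb.E⁆ ⊔ U
    have hKi := Mb.inv_sup (Mb.inv_commutator Mb.inv_E Mb.inv_E) hUi
    have hKR : K ≤ R := sup_le (Subgroup.commutator_le.2 hEc) (hUW.trans hWR)
    have hKl : lg p K ≤ lg p U + 1 := by
      have hle : K ≤ Z.comap σ := sup_le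
        (Subgroup.commutator_le.2 fun a ha c hc => by
          rw [mem_comap, map_commutatorElement]; exact hcomc a ha c hc)
        fun u hu => by rw [mem_comap, hσ1.2 hu]; exact one_mem _
      have hKσ : K.map σ ≤ Z := Subgroup.map_le_iff_le_comap.2 hle
      have h1 : lg p (K.map σ) + lg p U = lg p K := lg_map_mk hT U le_sup_right
      have hpow : σ c0 ^ p = 1 := by
        rw [map_commutatorElement, ← Cfsg.Lib.PGroups.commutator_pow_left_of_commute
          (by rw [← map_commutatorElement]; exact (hσc e1 he1 c0 hc0).symm) p, ← map_pow,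
          commutatorElement_eq_one_iff_commute.2 (hσc e2 he2 _ (hEp e1 he1)).symm]
      have h2 : lg p Z ≤ 1 := by
        by_cases hz : σ c0 = 1
        · rw [show Z = ⊥ from Subgroup.zpowers_eq_bot.2 hz, lg_bot]; omega
        · rw [lg_zpowers (hT.to_quotient U) hpow hz]
      have := lg_mono (p := p) hKσ
      omega
    intro a ha c hc
    have hmem : ⁅a, c⁆ ∈ K := mem_sup_left (commutator_mem_commutator ha hc)
    rcases hser K (Mb.inv_normal hKi) (hR0U.trans le_sup_right) hKR with h | h | h | h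
    · exact hR0U (h.le hmem)
    · exact h.le hmem
    · exact absurd (h ▸ hKi) hWb
    · rw [h] at hKl; omega
  have hpU : ∀ a ∈ Mb.E, a ^ p ∈ U := fun a ha => hFb.le ⟨hEp a ha, fun e he => by
    rw [← commutatorElement_inv]
    refine inv_mem (hπ1.1 ?_)
    rw [map_commutatorElement, map_pow, Cfsg.Lib.PGroups.commutator_pow_left_of_commute
      (by rw [← map_commutatorElement]; exact (hcU a _ (hKU a ha e he)).symm) p, ← map_commutatorElement,
      ← map_pow, hπ1]
    exact hRp _ (hWR (hUW (hKU a ha e he)))⟩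
  have := lg_rank hT hr (hUW.trans (hWR.trans hRE)) hKU hpU
  omega

/-- Coprime elements of the normal closures fix the core. -/
theorem fix_core [D.Normal] (hD : P.Core D) (hT : IsPGroup p T) (hr : RankThreeLE p T)
    (F : P.Facts D) (i : Bool) {g : (P.mdl i).G} (hg : g ∈ (P.mdl i).L) (hcop : (orderOf g).Coprime p) :
    ∀ d ∈ D, (P.mdl i).cj g d = d := by
  have hphii := (P.mdl i).inv_phi (p := p) (hD.com.1 i)
  refine (P.mdl i).fix_of_phi hT hcop (hD.com.1 i) ?_
  suffices key : ∀ n, ∀ R, P.Com R → R ≤ D → phi p D ≤ R → lg p R = n →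
      ∀ e ∈ R, (P.mdl i).cj g e * e⁻¹ ∈ phi p D from key _ D hD.com le_rfl (phi_le_self D) rfl
  intro n
  induction n using Nat.strong_induction_on with
  | _ n ih =>
    intro R hR hRD hphiR hn e he
    by_cases hne : phi p D = R
    · exact hne.ge (mul_mem ((hR.1 i).2 g e he) (inv_mem he))
    obtain ⟨R0, hR0, hle0, hlt, hcomm⟩ := P.exists_central_step hD hT hr F hR hRD (lt_of_le_of_ne hphiR hne)
    have h1 := (P.mdl i).L_trivial (hR0.1 i) (hR.1 i) hcomm g hg e he
    exact (P.mdl i).fix_step hT hcop hphii ((hR.1 i).1 he)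
      (ih (lg p R0) (by have := lg_lt hT hlt; omega) R0 hR0 (hlt.le.trans hRD) hle0 rfl _ h1)

end Duo

end Cfsg.Lib.Fusion.RankThreePair
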