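import Cfsg.Agent.Fusion.RankThreeTwo.Quot

/-!
The quotient by the greatest common invariant subgroup: both models pass to it, and its
automorphisms are those of the two models.
-/

set_option autoImplicit false
set_option linter.unusedSectionVars false
set_option linter.style.haveILetI false

namespace Cfsg.Lib.Fusion.RankThreePair

open Subgroup Cfsg.Lib.Fusion.RankThree
open scoped commutatorElement

universe u

variable {p : ℕ} [hp : Fact p.Prime] {T : Type u} [Group T] [Finite T]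

theorem commutator_zpow_left' {G : Type u} [Group G] {x y : G} (h : ⁅x, y⁆ ∈ center G) (n : ℤ) :
    ⁅x ^ n, y⁆ = ⁅x, y⁆ ^ n := by
  have h' : ⁅y, x⁆ ∈ center G := commutatorElement_inv x y ▸ inv_mem h
  rw [← commutatorElement_inv y (x ^ n), commutator_zpow_right h', ← inv_zpow, commutatorElement_inv]

/-- A power `(1 + z) ^ q` expanded to second order, doubled. -/
theorem two_mul_one_add_pow (z : ℤ) (q : ℕ) :
    ∃ k : ℤ, 2 * (1 + z) ^ q = 2 + 2 * q * z + q * (q - 1) * z ^ 2 + z ^ 3 * k := by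
  induction q with
  | zero => exact ⟨0, by simp⟩
  | succ q ih =>
    obtain ⟨k, hk⟩ := ih
    refine ⟨k * (1 + z) + q * (q - 1), ?_⟩
    rw [pow_succ, ← mul_assoc, hk]
    push_cast
    ring

theorem rankThreeLE_quotient (hr : RankThreeLE p T) (N : Subgroup T) [N.Normal] :
    RankThreeLE p (T ⧸ N) := by
  intro X K hKX hc hpow
  set π := QuotientGroup.mk' N
  have hNle : ∀ A : Subgroup (T ⧸ N), N ≤ A.comap π := fun A x hx => by
    rw [mem_comap, show π x = 1 from (QuotientGroup.eq_one_iff x).2 hx]; exact one_mem _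
  have hcard : ∀ A : Subgroup (T ⧸ N), Nat.card (A.comap π) = Nat.card A * Nat.card N := fun A => by
    rw [← card_map_mk N (hNle A), Subgroup.map_comap_eq_self_of_surjective (QuotientGroup.mk'_surjective N)]
  have h := hr (X.comap π) (K.comap π) (Subgroup.comap_mono hKX)
    (fun x hx y hy => by rw [mem_comap, map_commutatorElement]; exact hc _ hx _ hy)
    fun x hx => by rw [mem_comap, map_pow]; exact hpow _ hx
  rw [hcard, hcard, ← mul_assoc] at h
  exact Nat.le_of_mul_le_mul_right h Nat.card_pos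

namespace Duo

variable (P : Duo p T) {D : Subgroup T}

/-- The greatest common invariant subgroup. -/
structure Core (D : Subgroup T) : Prop where
  com : P.Com D
  max : ∀ R, P.Com R → R ≤ D

/-- The Frattini subgroup of one of the two subgroups, with the core. -/
def X (D : Subgroup T) (i : Bool) : Subgroup T := phi p (P.mdl i).E ⊔ D

theorem X_le_H (hD : P.Core D) (i : Bool) : P.X D i ≤ P.H := sup_le (P.phi_le_H _) (hD.com.le_H P)

theorem inv_X (hD : P.Core D) (i : Bool) : (P.mdl i).Inv (P.X D i) :=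
  (P.mdl i).inv_sup ((P.mdl i).inv_phi (P.mdl i).inv_E) (hD.com.1 i)

theorem D_ne_H (hD : P.Core D) (hT : IsPGroup p T) (hr : RankThreeLE p T) : D ≠ P.H := fun e =>
  P.not_inv_H hT hr (e ▸ hD.com.1 false) (e ▸ hD.com.1 true)

/-- The automorphisms of the quotient. -/
noncomputable def bar (hD : P.Com D) [D.Normal] : P.B →* MulAut (T ⧸ D) where
  toFun b := QuotientGroup.congr D D (b : MulAut T) (hD.2 b b.2)
  map_one' := MulEquiv.ext fun x => by
    obtain ⟨t, rfl⟩ := QuotientGroup.mk_surjective x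
    rfl
  map_mul' a b := MulEquiv.ext fun x => by
    obtain ⟨t, rfl⟩ := QuotientGroup.mk_surjective x
    rfl

theorem bar_mk (hD : P.Com D) [D.Normal] (b : P.B) (t : T) :
    P.bar hD b (QuotientGroup.mk' D t) = QuotientGroup.mk' D ((b : MulAut T) t) := rfl

/-- A normalising element of a quotient model comes from an automorphism. -/
theorem exists_bar (hD : P.Com D) [D.Normal] {i : Bool} (Q : Quot (P.mdl i) D) {g : Q.q.G}
    (hg : ∀ t, ∃ t', Q.q.ι t' = g * Q.q.ι t * g⁻¹) :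
    ∃ b : P.B, ∀ t, Q.q.ι (P.bar hD b t) = g * Q.q.ι t * g⁻¹ := by
  obtain ⟨g0, rfl⟩ := Q.surj g
  obtain ⟨g1, -, hg1, hn⟩ := Q.fix ⊤ inferInstance le_top g0 (mem_top _) hg
  obtain ⟨b, hb, hbg⟩ := P.norm i g1 hn
  refine ⟨⟨b, hb⟩, fun t => ?_⟩
  obtain ⟨t, rfl⟩ := QuotientGroup.mk'_surjective D t
  rw [P.bar_mk, Q.comm, Q.comm, hbg, map_mul, map_mul, map_inv, hg1]

/-- A model whose quotient by the core cannot be formed has the intersection as invariant subgroup. -/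
theorem X_eq_H (hD : P.Core D) (hT : IsPGroup p T) (hr : RankThreeLE p T) {i : Bool}
    (hbad : ¬ lg p (P.X D i) ≤ lg p (phi p (P.mdl i).E) + 1) : P.X D i = P.H := by
  refine eq_of_lg hT (P.X_le_H hD i) ?_
  have h1 := lg_phi hT hr (P.mdl i).E
  have h2 := P.lg_E hT i
  omega

theorem good (hD : P.Core D) (hT : IsPGroup p T) (hp2 : p ≠ 2) (hr : RankThreeLE p T) (i : Bool) :
    lg p (P.X D i) ≤ lg p (phi p (P.mdl i).E) + 1 := by
  by_contra hbad
  have hX := P.X_eq_H hD hT hr hbad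
  have hHi : (P.mdl i).Inv P.H := hX ▸ P.inv_X hD i
  have hHj : ¬ (P.mdl (!i)).Inv P.H := fun h => by
    cases i
    · exact P.not_inv_H hT hr hHi h
    · exact P.not_inv_H hT hr h hHi
  have hgj : lg p (P.X D (!i)) ≤ lg p (phi p (P.mdl (!i)).E) + 1 := by
    by_contra hb
    exact hHj (P.X_eq_H hD hT hr hb ▸ P.inv_X hD (!i))
  haveI := hD.com.normal P
  obtain ⟨Q⟩ := (P.mdl (!i)).nonempty_quot hT D (hD.com.1 _) hr hgj
  set mk := QuotientGroup.mk' D with hmk
  have hmk1 : ∀ {a : T}, a ∈ D → mk a = 1 := fun h => (QuotientGroup.eq_one_iff _).2 h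
  obtain ⟨y, hy, hyj⟩ := P.exists_mem i
  obtain ⟨x, hx, hxi⟩ : ∃ x ∈ (P.mdl (!i)).E, x ∉ (P.mdl i).E := by
    have := P.exists_mem (!i); rwa [Bool.not_not] at this
  set Mi := P.mdl i
  set Mj := P.mdl (!i)
  set H := P.H
  have hTq := hT.to_quotient D
  have hcyc : Mi.E ≤ zpowers y ⊔ D := by
    refine le_of_sup_phi hT (sup_le (zpowers_le.2 hy) (hD.com.1 i).1) fun e he => ?_
    obtain ⟨k, a, ha, rfl⟩ := exists_decomp Mj hyj e
    have haH : a ∈ H := (P.H_eq i).ge ⟨(Subgroup.mul_mem_cancel_left _ (zpow_mem hy k)).1 he, ha⟩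
    rw [← hX] at haH
    exact mul_mem (mem_sup_left (mem_sup_left (zpow_mem (mem_zpowers y) k)))
      ((sup_le le_sup_right (le_sup_right.trans le_sup_left) : P.X D i ≤ zpowers y ⊔ D ⊔ phi p Mi.E) haH)
  have hcyc' : ∀ e ∈ Mi.E, ∃ k : ℤ, mk e = mk y ^ k := fun e he => by
    obtain ⟨_, ⟨k, rfl⟩, d, hd, rfl⟩ := mem_sup_of_normal_right.1 (hcyc he)
    exact ⟨k, by rw [map_mul, hmk1 hd, mul_one, map_zpow]⟩
  have hyH : y ∉ H := fun h => hyj ((P.H_eq i).le h).2
  have hH : ∀ h ∈ H, ∃ l : ℤ, mk h = mk y ^ ((p : ℤ) * l) := fun h hh => by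
    obtain ⟨k, hk⟩ := hcyc' h (P.H_le i hh)
    by_cases hd : (p : ℤ) ∣ k
    · obtain ⟨l, rfl⟩ := hd
      exact ⟨l, hk⟩
    · refine absurd (mem_of_zpow_mem (P.pow_mem_H y) hd ?_) hyH
      have h1 : (y ^ k)⁻¹ * h ∈ D := QuotientGroup.eq.1 (by rw [QuotientGroup.mk_zpow]; exact hk.symm)
      simpa using mul_mem hh (inv_mem (hD.com.le_H P h1))
  set yb := mk y
  set xb := mk x
  set E := Q.q.E
  have hxbE : xb ∈ E := Q.mem_E hx
  have hybE : yb ∉ E := fun h => hyj (Q.comap_E.le h)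
  have hdec : ∀ e ∈ E, ∃ k l : ℤ, e = xb ^ k * yb ^ ((p : ℤ) * l) := fun e he => by
    obtain ⟨e, rfl⟩ := QuotientGroup.mk'_surjective D e
    have he' : e ∈ Mj.E := Q.comap_E.le he
    obtain ⟨k, a, ha, rfl⟩ := exists_decomp Mi hxi e
    have haH : a ∈ H := (P.H_eq i).ge ⟨ha, (Subgroup.mul_mem_cancel_left _ (zpow_mem hx k)).1 he'⟩
    obtain ⟨l, hl⟩ := hH a haH
    exact ⟨k, l, by rw [map_mul, map_zpow, hl]⟩
  obtain ⟨m, hm⟩ : ∃ m : ℤ, ⁅xb, yb⁆ = yb ^ ((p : ℤ) * m) := by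
    obtain ⟨l, hl⟩ := hH _ (P.comm_mem_H x y)
    exact ⟨l, by rw [← map_commutatorElement]; exact hl⟩
  have hypE : yb ^ p ∈ E := Q.comap_E.ge (Mj.pow_mem_E y) |> fun h => by rwa [mem_comap, map_pow] at h
  have hypE' : ∀ l : ℤ, yb ^ ((p : ℤ) * l) ∈ E := fun l => by
    rw [zpow_mul, zpow_natCast]; exact zpow_mem hypE l
  have hpm : ¬ (p : ℤ) ∣ m := by
    rintro ⟨m', rfl⟩
    haveI := Q.q.inv_normal (Q.q.inv_phi (p := p) Q.q.inv_E)
    let U : Subgroup (T ⧸ D) :=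
      { carrier := {e | ⁅yb, e⁆ ∈ phi p E}
        one_mem' := by
          show ⁅yb, (1 : T ⧸ D)⁆ ∈ phi p E
          rw [commutatorElement_one_right]; exact one_mem _
        mul_mem' := fun {a b} ha hb => by
          show ⁅yb, a * b⁆ ∈ phi p E
          rw [Cfsg.Lib.PGroups.mul_right_commutator]
          exact mul_mem ha (Subgroup.Normal.conj_mem ‹_› _ hb a)
        inv_mem' := fun {a} ha => by
          show ⁅yb, a⁻¹⁆ ∈ phi p E
          rw [show ⁅yb, a⁻¹⁆ = a⁻¹ * ⁅yb, a⁆⁻¹ * a⁻¹⁻¹ by simp only [commutatorElement_def]; group]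
          exact Subgroup.Normal.conj_mem ‹_› _ (inv_mem ha) a⁻¹ }
    have hxU : ⁅yb, xb⁆ ∈ phi p E := by
      rw [← commutatorElement_inv, hm]
      refine inv_mem (mem_sup_right ?_)
      rw [zpow_mul, zpow_natCast, zpow_mul, zpow_natCast]
      exact zpow_mem (pow_mem_pw hypE) m'
    refine hybE (Q.q.stab_phi hTq (n := 2) (fun i => match i with | 0 => E | 1 => E | _ => phi p E) rfl
      (by norm_num) le_rfl
      (fun i hi => match i, hi with
        | 0, _ => Q.q.inv_E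
        | 1, _ => Q.q.inv_E
        | _ + 2, _ => Q.q.inv_phi Q.q.inv_E)
      fun i hi e he => match i, hi, he with
        | 0, _, _ => Q.q.commutator_mem_E yb e
        | 1, _, he => ?_)
    obtain ⟨k, l, rfl⟩ := hdec e he
    refine (mul_mem (zpow_mem (show xb ∈ U from hxU) k) (show yb ^ ((p : ℤ) * l) ∈ U from ?_) : _ ∈ U)
    show ⁅yb, yb ^ ((p : ℤ) * l)⁆ ∈ phi p E
    rw [commutatorElement_eq_one_iff_commute.2 ((Commute.refl yb).zpow_right _)]
    exact one_mem _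
  have ha : xb * yb * xb⁻¹ = yb ^ (1 + (p : ℤ) * m) := by
    rw [add_comm, zpow_add_one, ← hm, commutatorElement_def, inv_mul_cancel_right]
  have hconj : ∀ n : ℕ, xb ^ n * yb * (xb ^ n)⁻¹ = yb ^ ((1 + (p : ℤ) * m) ^ n) := fun n => by
    induction n with
    | zero => simp
    | succ n ih =>
      rw [show xb ^ (n + 1) * yb * (xb ^ (n + 1))⁻¹ = xb * (xb ^ n * yb * (xb ^ n)⁻¹) * xb⁻¹ by
        rw [pow_succ']; group, ih, ← conj_zpow, ha, ← zpow_mul, ← pow_succ']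
  have hy2 : yb ^ p ^ 2 = 1 := by
    obtain ⟨n, hn⟩ := IsPGroup.iff_orderOf.1 hTq yb
    obtain ⟨l, hl⟩ := hH _ (P.pow_mem_H x)
    rw [map_pow] at hl
    have h1 := hconj p
    rw [show xb ^ p = yb ^ ((p : ℤ) * l) from hl, ((Commute.refl yb).zpow_left _).eq, mul_inv_cancel_right] at h1
    have h2 : (orderOf yb : ℤ) ∣ (1 + (p : ℤ) * m) ^ p - 1 := by
      rw [orderOf_dvd_iff_zpow_eq_one, zpow_sub_one, ← h1, mul_inv_cancel]
    refine orderOf_dvd_iff_pow_eq_one.1 (hn ▸ Nat.pow_dvd_pow p ?_)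
    by_contra hn3
    push Not at hn3
    have h3 : (p : ℤ) ^ 3 ∣ 2 * ((1 + (p : ℤ) * m) ^ p - 1) := by
      refine Dvd.dvd.mul_left (dvd_trans ?_ h2) 2
      rw [hn, Nat.cast_pow]
      exact pow_dvd_pow _ hn3
    obtain ⟨k, hk⟩ := two_mul_one_add_pow ((p : ℤ) * m) p
    have h4 : (p : ℤ) ^ 3 ∣ 2 * m * (p : ℤ) ^ 2 := by
      have h5 : (p : ℤ) ^ 3 ∣ (p : ℤ) * ((p : ℤ) - 1) * ((p : ℤ) * m) ^ 2 + ((p : ℤ) * m) ^ 3 * k :=
        ⟨((p : ℤ) - 1) * m ^ 2 + m ^ 3 * k, by ring⟩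
      have h6 := dvd_sub h3 h5
      have e : 2 * ((1 + (p : ℤ) * m) ^ p - 1) -
          ((p : ℤ) * ((p : ℤ) - 1) * ((p : ℤ) * m) ^ 2 + ((p : ℤ) * m) ^ 3 * k) = 2 * m * (p : ℤ) ^ 2 := by
        rw [mul_sub, hk]; ring
      rwa [e] at h6
    rw [pow_succ', Int.mul_dvd_mul_iff_right (pow_ne_zero 2 (by exact_mod_cast hp.out.ne_zero))] at h4
    rcases (Nat.prime_iff_prime_int.1 hp.out).dvd_or_dvd h4 with h | h
    · exact hp2 ((Nat.prime_dvd_prime_iff_eq hp.out Nat.prime_two).1 (by exact_mod_cast h))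
    · exact hpm h
  set c := yb ^ p with hc
  have hcp : c ^ p = 1 := by rw [hc, ← pow_mul, ← sq, hy2]
  have hc1 : c ≠ 1 := fun h => P.D_ne_H hD hT hr (le_antisymm (hD.com.le_H P) fun a ha => by
    obtain ⟨l, hl⟩ := hH a ha
    rw [zpow_mul, zpow_natCast, ← hc, h, one_zpow] at hl
    exact (QuotientGroup.eq_one_iff a).1 hl)
  have hHb : H.map mk = zpowers c := by
    refine le_antisymm ?_ (zpowers_le.2 ⟨_, P.pow_mem_H y, by rw [map_pow]⟩)
    rintro _ ⟨a, ha, rfl⟩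
    obtain ⟨l, hl⟩ := hH a ha
    exact ⟨l, by rw [hl, zpow_mul, zpow_natCast]⟩
  haveI hHn : (zpowers c).Normal := hHb ▸ Subgroup.Normal.map P.H_normal mk (QuotientGroup.mk'_surjective D)
  have hcz : c ∈ center (T ⧸ D) :=
    Cfsg.Lib.PGroups.le_center_of_card_eq_prime hTq (card_zpowers_eq hcp hc1) (mem_zpowers c)
  have hHbE : zpowers c ≤ E := zpowers_le.2 hypE
  have hcom : ∀ s t : T ⧸ D, ⁅s, t⁆ ∈ zpowers c := fun s t => by
    obtain ⟨s, rfl⟩ := QuotientGroup.mk'_surjective D s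
    obtain ⟨t, rfl⟩ := QuotientGroup.mk'_surjective D t
    rw [← hHb, ← map_commutatorElement]
    exact mem_map_of_mem _ (P.comm_mem_H s t)
  have hEc : Nat.card E = p ^ 2 := by
    have h1 : lg p (H.map mk) + lg p D = lg p H := lg_map_mk hT D (hD.com.le_H P)
    have h2 : lg p (Mj.E.map mk) + lg p D = lg p Mj.E := lg_map_mk hT D (hD.com.1 _).1
    have h3 : lg p Mj.E = lg p H + 1 := P.lg_E hT (!i)
    have h4 : lg p (zpowers c) = 1 :=
      Nat.pow_right_injective hp.out.two_le (by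
        show p ^ lg p (zpowers c) = p ^ 1
        rw [← card_lg hTq, pow_one, card_zpowers_eq hcp hc1])
    rw [hHb, h4] at h1
    rw [show E = Mj.E.map mk from Q.E_eq, card_lg hTq]
    congr 1
    omega
  have hEab : ∀ v ∈ E, ∀ w ∈ E, Commute v w := fun v hv w hw => by
    obtain ⟨k, l, rfl⟩ := hdec v hv
    obtain ⟨k', l', rfl⟩ := hdec w hw
    have hz : ∀ (t : T ⧸ D) (q : ℤ), Commute (yb ^ ((p : ℤ) * q)) t := fun t q => by
      rw [zpow_mul, zpow_natCast]
      exact (mem_center_iff.1 (zpow_mem hcz q) t).symm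
    exact ((((Commute.refl xb).zpow_zpow k k').mul_right (hz _ l').symm)).mul_left (hz _ l)
  have hHnot : ¬ Q.q.Inv (zpowers c) := fun h => hHj (by
    have h1 := Q.inv_comap h
    rw [← hHb, Subgroup.comap_map_eq, QuotientGroup.ker_mk', sup_eq_left.2 (hD.com.le_H P)] at h1
    exact h1)
  have hexp : ∀ v ∈ E, v ^ p = 1 := fun v hv => by
    by_contra hv1
    refine hHnot ?_
    have hle : pw p E ≤ zpowers c := pw_le_iff.2 fun w _ => by
      obtain ⟨w, rfl⟩ := QuotientGroup.mk'_surjective D w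
      rw [← hHb, ← map_pow]
      exact mem_map_of_mem _ (P.pow_mem_H w)
    have heq : pw p E = zpowers c := by
      refine Subgroup.eq_of_le_of_card_ge hle ?_
      rw [card_zpowers_eq hcp hc1]
      have hne : pw p E ≠ ⊥ := fun e => hv1 (mem_bot.1 (e ▸ pow_mem_pw hv))
      have := card_mul_le hTq (bot_lt_iff_ne_bot.2 hne)
      rwa [Subgroup.card_bot, mul_one] at this
    exact heq ▸ Q.q.inv_pw Q.q.inv_E
  have hcom1 : ⁅xb, yb⁆ ≠ 1 := by
    rw [hm, zpow_mul, zpow_natCast, ← hc]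
    exact fun h => hpm ((zpow_eq_one_iff hcp hc1 m).1 h)
  have hfix : ¬ Q.q.Inv (E ⊓ center (T ⧸ D)) := by
    intro h
    have hle : zpowers c ≤ E ⊓ center (T ⧸ D) := le_inf hHbE (zpowers_le.2 hcz)
    have hlt : E ⊓ center (T ⧸ D) < E := lt_of_le_of_ne inf_le_left fun e => hcom1
      (commutatorElement_eq_one_iff_commute.2 (mem_center_iff.1 (e.ge hxbE).2 yb).symm)
    refine hHnot ((Subgroup.eq_of_le_of_card_ge hle ?_) ▸ h)
    have h1 := card_mul_le hTq hlt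
    rw [hEc, sq] at h1
    rw [card_zpowers_eq hcp hc1]
    exact Nat.le_of_mul_le_mul_left h1 hp.out.pos
  obtain ⟨N, C, PL⟩ := Q.q.exists_plane hTq Q.q.inv_E hEab hexp (Or.inl hEc) hcz
    (fun v _ => hcom yb v) ⟨xb, hxbE, fun h => hcom1 (by rw [← commutatorElement_inv, h, inv_one])⟩ hfix
  have hN : N = E := Subgroup.eq_of_le_of_card_ge PL.N_le (by rw [hEc, PL.card_N])
  obtain ⟨g, -, hgn, hgN, -⟩ := PL.neg
  obtain ⟨b, hb⟩ := P.exists_bar hD.com Q hgn
  set β := P.bar hD.com b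
  have hβE : ∀ e ∈ E, β e = e⁻¹ := fun e he => by
    rw [← hgN e (hN.ge he)]
    exact (Q.q.cj_eq he (hb e)).symm
  obtain ⟨k, hk⟩ : ∃ k : ℤ, β yb = yb ^ k := by
    obtain ⟨k, hk⟩ := hcyc' ((b : MulAut T) y) ((P.map_E b.2 i).le (mem_map_of_mem _ hy))
    exact ⟨k, hk⟩
  have hp1 : (p : ℤ) ∣ k + 1 := by
    have h1 := hβE c hypE
    rw [hc, map_pow, hk, ← zpow_natCast, ← zpow_mul, mul_comm, zpow_mul, zpow_natCast, ← hc] at h1
    refine (zpow_eq_one_iff hcp hc1 _).1 ?_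
    rw [zpow_add_one, h1, inv_mul_cancel]
  have hcomc : ∀ s t : T ⧸ D, ⁅s, t⁆ ∈ center (T ⧸ D) := fun s t => (zpowers_le.2 hcz) (hcom s t)
  have hp' : (p : ℤ) ∣ k - 1 := by
    have hpow : ⁅xb, yb⁆ ^ p = 1 := by
      obtain ⟨l, hl⟩ := hcom xb yb
      rw [← hl, ← zpow_natCast, ← zpow_mul, mul_comm, zpow_mul, zpow_natCast, hcp, one_zpow]
    refine (zpow_eq_one_iff hpow hcom1 _).1 ?_
    have h1 := hβE _ (hHbE (hcom xb yb))
    rw [map_commutatorElement, hβE xb hxbE, hk, commutator_zpow_right (hcomc _ _), ← zpow_neg_one xb,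
      commutator_zpow_left' (hcomc _ _), zpow_neg_one, inv_zpow, inv_inj] at h1
    rw [zpow_sub_one, h1, mul_inv_cancel]
  have h2 := dvd_sub hp1 hp'
  rw [show k + 1 - (k - 1) = ((2 : ℕ) : ℤ) by push_cast; ring, Int.natCast_dvd_natCast] at h2
  exact hp2 ((Nat.prime_dvd_prime_iff_eq hp.out Nat.prime_two).1 h2)

end Duo

end Cfsg.Lib.Fusion.RankThreePair
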