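import Cfsg.Agent.Fusion.RankThreeTwo.Action

/-!
A nontrivial core is central and the group has class two.
-/

set_option autoImplicit false
set_option linter.unusedSectionVars false
set_option linter.style.haveILetI false

namespace Cfsg.Lib.Fusion.RankThreePair

open Subgroup Cfsg.Lib.Fusion.RankThree
open scoped commutatorElement

universe u

variable {p : ℕ} [hp : Fact p.Prime] {T : Type u} [Group T] [Finite T]

theorem not_dvd_two (hp2 : p ≠ 2) : ¬ (p : ℤ) ∣ 2 := fun h =>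
  hp2 ((Nat.prime_dvd_prime_iff_eq hp.out Nat.prime_two).1 (by exact_mod_cast h))

theorem eq_one_of_sq (hT : IsPGroup p T) (hp2 : p ≠ 2) {z : T} (h : z * z = 1) : z = 1 :=
  eq_one_of_coprime_pow hT (m := 2) ((Nat.coprime_primes Nat.prime_two hp.out).2 (Ne.symm hp2)) (by
    rw [sq, h])

theorem eq_one_of_zpow (hp2 : p ≠ 2) {z : T} (hz : z ^ p = 1) {k : ℤ} (hk : (p : ℤ) ∣ k - 1)
    (h : z ^ (k + 1) = 1) : z = 1 := by
  by_contra hz1
  have h1 := (zpow_eq_one_iff hz hz1 _).1 h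
  exact not_dvd_two hp2 (by simpa using dvd_sub h1 hk)

namespace Duo

variable (P : Duo p T) {D : Subgroup T}

/-- An automorphism inverting one of the subgroups modulo its Frattini subgroup and fixing the core. -/
structure Inverts (D : Subgroup T) (i : Bool) (b : MulAut T) : Prop where
  mem : b ∈ P.B
  fix : ∀ d ∈ D, b d = d
  inv : ∀ e ∈ (P.mdl i).E, b e * e ∈ P.X D i
  order : ∃ m : ℕ, m.Coprime p ∧ b ^ m = 1

theorem exists_inverts [D.Normal] (hD : P.Core D) (hT : IsPGroup p T) (hp2 : p ≠ 2) (hr : RankThreeLE p T)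
    (F : P.Facts D) {i : Bool} (h2 : lg p (P.mdl i).E = lg p (P.X D i) + 2) : ∃ b, P.Inverts D i b := by
  set M := P.mdl i
  set X := P.X D i
  have hXi : M.Inv X := P.inv_X hD i
  haveI := M.inv_normal hXi
  obtain ⟨Q⟩ := M.nonempty_quot hT X hXi hr (by
    rw [show phi p M.E ⊔ X = X from sup_eq_right.2 le_sup_left]
    exact P.good hD hT hp2 hr i)
  set mk := QuotientGroup.mk' X
  have hmk1 : ∀ {a : T}, a ∈ X → mk a = 1 := fun h => (QuotientGroup.eq_one_iff _).2 h
  have hTq := hT.to_quotient X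
  set E := Q.q.E
  have hXH : X ≤ P.H := P.X_le_H hD i
  set Hb := P.H.map mk
  haveI : Hb.Normal := Subgroup.Normal.map P.H_normal mk (QuotientGroup.mk'_surjective X)
  have hlE : lg p E = 2 := by
    have h1 : lg p (M.E.map mk) + lg p X = lg p M.E := lg_map_mk hT X hXi.1
    have h1' : lg p E + lg p X = lg p M.E := by rw [show E = M.E.map mk from Q.E_eq]; exact h1
    have h2' : lg p M.E = lg p X + 2 := h2
    omega
  have hlH : lg p Hb = 1 := by
    have h1 : lg p Hb + lg p X = lg p P.H := lg_map_mk hT X hXH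
    have h3 : lg p M.E = lg p P.H + 1 := P.lg_E hT i
    have h2' : lg p M.E = lg p X + 2 := h2
    omega
  have hHE : Hb ≤ E := by
    rw [show E = M.E.map mk from Q.E_eq]
    exact Subgroup.map_mono (P.H_le i)
  have hHc : Hb ≤ center (T ⧸ X) :=
    Cfsg.Lib.PGroups.le_center_of_card_eq_prime hTq (by rw [card_lg hTq, hlH, pow_one])
  have hab : ∀ v ∈ E, ∀ w ∈ E, Commute v w := fun v hv w hw => by
    obtain ⟨v, rfl⟩ := QuotientGroup.mk'_surjective X v
    obtain ⟨w, rfl⟩ := QuotientGroup.mk'_surjective X w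
    rw [← commutatorElement_eq_one_iff_commute, ← map_commutatorElement]
    exact hmk1 (mem_sup_left (mem_sup_left (commutator_mem_commutator (Q.comap_E.le hv) (Q.comap_E.le hw))))
  have hexp : ∀ v ∈ E, v ^ p = 1 := fun v hv => by
    obtain ⟨v, rfl⟩ := QuotientGroup.mk'_surjective X v
    rw [← map_pow]
    exact hmk1 (mem_sup_left (mem_sup_right (pow_mem_pw (Q.comap_E.le hv))))
  obtain ⟨x, hx⟩ := Q.q.exists_not_mem
  obtain ⟨c, hc, hc0⟩ := exists_not_mem_of_card (A := (⊥ : Subgroup (T ⧸ X))) (B := Hb) (by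
    rw [Subgroup.card_bot, card_lg hTq Hb, hlH, pow_one]; exact hp.out.one_lt)
  have hc1 : c ≠ 1 := fun e => hc0 (mem_bot.2 e)
  have hcH : zpowers c = Hb := eq_of_lg hTq (zpowers_le.2 hc) (by
    rw [lg_zpowers hTq (hexp c (hHE hc)) hc1]; omega)
  have hline : ∀ v ∈ E, ⁅x, v⁆ ∈ zpowers c := fun v _ => by
    obtain ⟨x, rfl⟩ := QuotientGroup.mk'_surjective X x
    obtain ⟨v, rfl⟩ := QuotientGroup.mk'_surjective X v
    rw [hcH, ← map_commutatorElement]
    exact mem_map_of_mem mk (P.comm_mem_H x v)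
  have hne : ∃ v ∈ E, ⁅x, v⁆ ≠ 1 := by
    by_contra h
    push Not at h
    exact hx (Q.q.centralizer_E_le (mem_centralizer_iff.2 fun v hv =>
      (commutatorElement_eq_one_iff_commute.1 (h v hv)).eq.symm))
  have hfix : ¬ Q.q.Inv (E ⊓ center (T ⧸ X)) := fun h => by
    have hlt : E ⊓ center (T ⧸ X) < E := lt_of_le_of_ne inf_le_left fun e => by
      obtain ⟨v, hv, hv1⟩ := hne
      exact hv1 (commutatorElement_eq_one_iff_mul_comm.2 (mem_center_iff.1 (e.ge hv).2 x))
    have heq : Hb = E ⊓ center (T ⧸ X) := eq_of_lg hTq (le_inf hHE hHc) (by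
      have := lg_lt hTq hlt; omega)
    rw [← heq] at h
    have h1 := Q.inv_comap h
    rw [Subgroup.comap_map_eq, QuotientGroup.ker_mk', sup_eq_left.2 hXH] at h1
    exact F.not_inv i h1
  obtain ⟨N, C, PL⟩ := Q.q.exists_plane hTq Q.q.inv_E hab hexp (Or.inl (by rw [card_lg hTq, hlE]))
    (hHc hc) hline hne hfix
  have hN : N = E := Subgroup.eq_of_le_of_card_ge PL.N_le (by rw [card_lg hTq E, hlE, PL.card_N])
  obtain ⟨g, hgL, hgn, hgN, -⟩ := PL.neg
  rw [Q.L_eq] at hgL
  obtain ⟨g0, hg0, rfl⟩ := hgL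
  haveI : M.L.Normal := normalClosure_normal
  obtain ⟨g1, hg1, hg10, hn1⟩ := Q.fix M.L inferInstance (fun _ h => subset_normalClosure h) g0 hg0 hgn
  rw [← hg10] at hgN
  obtain ⟨a, m, hm, hq⟩ := exists_orderOf_split (p := p) g1
  set g2 := g1 ^ p ^ a with hg2
  have hg2m : g2 ^ m = 1 := by rw [hg2, ← pow_mul, ← hm, pow_orderOf_eq_one]
  have hcopm : m.Coprime p := (hp.out.coprime_iff_not_dvd.2 hq).symm
  have hcop : (orderOf g2).Coprime p := hcopm.coprime_dvd_left (orderOf_dvd_of_pow_eq_one hg2m)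
  have hpown : ∀ n : ℕ, ∀ t, ∃ t', M.ι t' = g1 ^ n * M.ι t * (g1 ^ n)⁻¹ := fun n => by
    induction n with
    | zero => exact fun t => ⟨t, by simp⟩
    | succ n ih =>
      intro t
      obtain ⟨t', ht'⟩ := ih t
      obtain ⟨t'', ht''⟩ := hn1 t'
      exact ⟨t'', by rw [ht'', ht', pow_succ']; group⟩
  obtain ⟨b, hb, hbg⟩ := P.norm i g2 (hpown _)
  have hbE : ∀ e ∈ M.E, b e = M.cj g2 e := fun e he => (M.cj_eq he (hbg e)).symm
  refine ⟨b, hb, fun d hd => ?_, fun e he => ?_, m, hcopm, ?_⟩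
  · rw [hbE d ((hD.com.1 i).1 hd)]
    exact P.fix_core hD hT hr F i (pow_mem hg1 _) hcop d hd
  · refine (QuotientGroup.eq_one_iff _).1 ?_
    show mk (b e * e) = 1
    have hit : ∀ n : ℕ, Q.q.cj (Q.π g1 ^ n) (mk e) = mk e ^ ((-1 : ℤ) ^ n) := fun n => by
      induction n with
      | zero => rw [pow_zero, pow_zero, zpow_one, Q.q.cj_one_left (Q.mem_E he)]
      | succ n ih =>
        rw [Mdl.cj_pow_left _ _ _ (Q.mem_E he), ih, hgN _ (hN.ge (zpow_mem (Q.mem_E he) _)), ← zpow_neg,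
          pow_succ, mul_neg_one]
    have h1 := hit (p ^ a)
    rw [((hp.out.odd_of_ne_two hp2).pow).neg_one_pow, zpow_neg_one, ← map_pow, ← hg2, Q.cj he, ← hbE e he] at h1
    rw [map_mul, h1, inv_mul_cancel]
  · refine MulEquiv.ext fun t => M.inj ?_
    have hit : ∀ n : ℕ, M.ι ((b ^ n) t) = g2 ^ n * M.ι t * (g2 ^ n)⁻¹ := fun n => by
      induction n with
      | zero => simp
      | succ n ih => rw [pow_succ', MulAut.mul_apply, hbg, ih, pow_succ']; group
    rw [hit m, hg2m, MulAut.one_apply]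
    simp

theorem lg_X_add_two [D.Normal] (hT : IsPGroup p T) {i : Bool}
    (h : P.IsSmall D ∨ P.IsBig D i) : lg p (P.mdl i).E = lg p (P.X D i) + 2 := by
  have h1 := P.lg_E hT i
  rcases h with h | h
  · have := h.1; rw [h.2 i]; omega
  · have := h.lg_H; have := h.lg_X; omega

/-- The action of an inverting automorphism outside. -/
theorem exists_exponent [D.Normal] (hD : P.Core D) (hT : IsPGroup p T) (F : P.Facts D) {i : Bool}
    (h2 : lg p (P.mdl i).E = lg p (P.X D i) + 2) {b : MulAut T} (hb : P.Inverts D i b)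
    {f : T} (hf : f ∈ (P.mdl (!i)).E) (hfi : f ∉ (P.mdl i).E) :
    ∃ k : ℤ, ∃ a ∈ P.H, b f = f ^ k * a ∧ (p : ℤ) ∣ k - 1 := by
  set X := P.X D i
  haveI := (P.mdl i).inv_normal (P.inv_X hD i)
  obtain ⟨k, a, ha, hbf⟩ := exists_decomp (P.mdl i) hfi (b f)
  have haH : a ∈ P.H := (P.H_eq i).ge ⟨ha, (Subgroup.mul_mem_cancel_left _ (zpow_mem hf k)).1
    (hbf ▸ (P.map_E hb.mem (!i)).le (mem_map_of_mem b.toMonoidHom hf))⟩
  refine ⟨k, a, haH, hbf, ?_⟩
  set mk := QuotientGroup.mk' X with hmk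
  have hmk1 : ∀ {a : T}, mk a = 1 ↔ a ∈ X := fun {a} => QuotientGroup.eq_one_iff a
  have hlE := P.lg_E hT i
  have h2' : lg p (P.mdl i).E = lg p X + 2 := h2
  haveI := P.H_normal
  have hHc : ∀ h ∈ P.H, ∀ t : T, Commute (mk t) (mk h) := fun h hh t => by
    rw [← commutatorElement_eq_one_iff_commute, ← map_commutatorElement, hmk1]
    exact comm_le_of_lg hT (show X ≤ P.H from P.X_le_H hD i) (by omega) t hh
  obtain ⟨e, he, hei⟩ := P.exists_mem i
  have heH : e ∉ P.H := fun h => hei ((P.H_eq i).le h).2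
  have hgen : ∀ t : T, ∃ l m : ℤ, ∃ h ∈ P.H, t = f ^ l * (e ^ m * h) := fun t => by
    obtain ⟨l, w, hw, rfl⟩ := exists_decomp (P.mdl i) hfi t
    obtain ⟨m, h, hh, rfl⟩ := exists_decomp (P.mdl (!i)) hei w
    exact ⟨l, m, h, (P.H_eq i).ge ⟨(Subgroup.mul_mem_cancel_left _ (zpow_mem he m)).1 hw, hh⟩, rfl⟩
  have hne : ⁅mk e, mk f⁆ ≠ 1 := fun h0 => by
    have hall : ∀ s t : T, ⁅s, t⁆ ∈ X := fun s t => by
      rw [← hmk1, map_commutatorElement, commutatorElement_eq_one_iff_commute]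
      obtain ⟨l, m, h, hh, rfl⟩ := hgen s
      obtain ⟨l', m', h', hh', rfl⟩ := hgen t
      have hef := commutatorElement_eq_one_iff_commute.1 h0
      simp only [map_mul, map_zpow]
      refine Commute.mul_left (Commute.zpow_left ?_ l) (Commute.mul_left (Commute.zpow_left ?_ m) ?_)
      · exact ((Commute.refl _).zpow_right l').mul_right ((hef.symm.zpow_right m').mul_right (hHc h' hh' f))
      · exact (hef.zpow_right l').mul_right (((Commute.refl _).zpow_right m').mul_right (hHc h' hh' e))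
      · exact ((hHc h hh f).symm.zpow_right l').mul_right
          (((hHc h hh e).symm.zpow_right m').mul_right (hHc h' hh' h))
    have hle : P.H ≤ X := F.H_le.trans (sup_le (Subgroup.commutator_le.2 fun s _ t _ => hall s t) le_sup_right)
    have := lg_mono (p := p) hle
    omega
  set c := ⁅mk e, mk f⁆ with hc
  have hcH : ⁅e, f⁆ ∈ P.H := P.comm_mem_H e f
  have hcc : c ∈ center (T ⧸ X) := mem_center_iff.2 fun z => by
    obtain ⟨z, rfl⟩ := QuotientGroup.mk'_surjective X z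
    rw [hc, ← map_commutatorElement]
    exact hHc _ hcH z
  have hcp : c ^ p = 1 := by
    rw [hc, ← map_commutatorElement, ← map_pow, hmk1]
    exact mem_sup_left (mem_sup_right (pow_mem_pw (P.H_le i hcH)))
  have hinv : ∀ w ∈ (P.mdl i).E, mk (b w) = (mk w)⁻¹ := fun w hw => by
    rw [eq_inv_iff_mul_eq_one, ← map_mul, hmk1]
    exact hb.inv w hw
  refine (zpow_eq_one_iff hcp hne _).1 ?_
  have h1 : mk (b ⁅e, f⁆) = c⁻¹ := by
    rw [hinv _ (P.H_le i hcH), map_commutatorElement]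
  rw [map_commutatorElement b, map_commutatorElement mk, hinv e he, hbf, map_mul, map_zpow,
    Cfsg.Lib.PGroups.mul_right_commutator,
    commutatorElement_eq_one_iff_commute.2 (hHc a haH e).inv_left, mul_one, mul_inv_cancel, mul_one] at h1
  have hcc' : ⁅(mk e)⁻¹, mk f⁆ ∈ center (T ⧸ X) := by
    rw [← zpow_neg_one (mk e), commutator_zpow_left' hcc]; exact zpow_mem hcc _
  rw [commutator_zpow_right hcc', ← zpow_neg_one (mk e), commutator_zpow_left' hcc, zpow_neg_one,
    inv_zpow, inv_inj] at h1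
  rw [zpow_sub_one, h1, mul_inv_cancel]

theorem core_center [D.Normal] (hD : P.Core D) (hT : IsPGroup p T) (hp2 : p ≠ 2) (hr : RankThreeLE p T)
    (F : P.Facts D) : D ≤ center T := by
  set C := centralizer (D : Set T) with hC
  haveI hCn : C.Normal := ⟨fun c hc t => mem_centralizer_iff.2 fun d hd => by
    have h1 := mem_centralizer_iff.1 hc _ (Subgroup.Normal.conj_mem ‹D.Normal› d hd t⁻¹)
    rw [inv_inv] at h1
    calc d * (t * c * t⁻¹) = t * (t⁻¹ * d * t * c) * t⁻¹ := by group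
      _ = t * (c * (t⁻¹ * d * t)) * t⁻¹ := by rw [h1]
      _ = t * c * t⁻¹ * d := by group⟩
  set K := C ⊔ D
  have hEK : ∀ i, lg p (P.mdl i).E = lg p (P.X D i) + 2 → (P.mdl i).E ≤ K := by
    intro i h2
    obtain ⟨b, hb⟩ := P.exists_inverts hD hT hp2 hr F h2
    set X := P.X D i
    haveI := (P.mdl i).inv_normal (P.inv_X hD i)
    haveI : K.Normal := @Subgroup.sup_normal _ _ _ _ hCn ‹D.Normal›
    have hmem : ∀ e ∈ (P.mdl i).E, e ∈ K ⊔ X := fun e he => by
      have h1 : e⁻¹ * b e ∈ C := mem_centralizer_iff.2 fun d hd => by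
        have h4 : b (e * d * e⁻¹) = e * d * e⁻¹ := hb.fix _ (Subgroup.Normal.conj_mem ‹D.Normal› d hd e)
        rw [map_mul, map_mul, map_inv, hb.fix d hd] at h4
        calc d * (e⁻¹ * b e) = e⁻¹ * (e * d * e⁻¹) * b e := by group
          _ = e⁻¹ * (b e * d * (b e)⁻¹) * b e := by rw [h4]
          _ = e⁻¹ * b e * d := by group
      have hx : e⁻¹ * (b e * e) * e ∈ X := by
        simpa using Subgroup.Normal.conj_mem ‹X.Normal› _ (hb.inv e he) e⁻¹
      have h3 : e ^ (-2 : ℤ) ∈ K ⊔ X := by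
        have h4 := mul_mem (inv_mem (mem_sup_right hx : _ ∈ K ⊔ X)) (mem_sup_left (mem_sup_left h1 : _ ∈ K) : _ ∈ K ⊔ X)
        convert h4 using 1
        group
      exact mem_of_zpow_mem (mem_sup_right (mem_sup_left (mem_sup_right (pow_mem_pw he))))
        (fun h => not_dvd_two hp2 (dvd_neg.1 h)) h3
    refine (le_of_sup_phi hT inf_le_right fun e he => ?_).trans (inf_le_left : K ⊓ (P.mdl i).E ≤ K)
    obtain ⟨k, hk, x, hx, rfl⟩ := mem_sup_of_normal_left.1 (hmem e he)
    have hxE : x ∈ (P.mdl i).E := (P.inv_X hD i).1 hx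
    have hkE := (Subgroup.mul_mem_cancel_right _ hxE).1 he
    refine mul_mem (mem_sup_left ⟨hk, hkE⟩) ?_
    refine (sup_le le_sup_right (le_sup_of_le_left (le_inf le_sup_right (hD.com.1 i).1)) :
      X ≤ K ⊓ (P.mdl i).E ⊔ phi p (P.mdl i).E) hx
  have hK : K = ⊤ := by
    rcases F.cases with h | ⟨i, h⟩
    · refine eq_top_iff.2 ?_
      rw [← P.sup_eq_top false]
      exact sup_le (hEK _ (P.lg_X_add_two hT (Or.inl h))) (hEK _ (P.lg_X_add_two hT (Or.inl h)))
    · have hi := hEK i (P.lg_X_add_two hT (Or.inr h))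
      by_contra hne
      have hKE : K = (P.mdl i).E := by
        refine le_antisymm ?_ hi
        by_contra hn
        obtain ⟨x, hx, hxE⟩ := SetLike.not_le_iff_exists.1 hn
        exact hne ((P.mdl i).eq_top_of_lt hi hx hxE)
      refine F.not_inv (!i) ?_
      have hH : P.H = ((P.mdl (!i)).E ⊓ C) ⊔ D := by
        rw [P.H_eq i, ← hKE]
        refine le_antisymm (fun w hw => ?_) (sup_le (le_inf (inf_le_right.trans le_sup_left) inf_le_left)
          (le_inf le_sup_right (hD.com.1 _).1))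
        obtain ⟨c, hc, d, hd, rfl⟩ := mem_sup_of_normal_left.1 hw.1
        exact mul_mem (mem_sup_left ⟨(Subgroup.mul_mem_cancel_right _ ((hD.com.1 _).1 hd)).1 hw.2, hc⟩)
          (mem_sup_right hd)
      rw [hH]
      exact (P.mdl (!i)).inv_sup ((P.mdl (!i)).inv_centralizer (hD.com.1 _)) (hD.com.1 _)
  -- the core is abelian
  have hCD : ∀ c ∈ C, ∀ d ∈ D, Commute c d := fun c hc d hd => (mem_centralizer_iff.1 hc d hd).symm
  set A := phi p C ⊔ C ⊓ D with hA
  set J := A ⊔ phi p D with hJ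
  have hAC : A ≤ C := sup_le (phi_le_self C) inf_le_left
  haveI : (C ⊓ D).Normal := Subgroup.normal_inf_normal C D
  haveI : A.Normal := @Subgroup.sup_normal _ _ _ _ (phi_normal C) inferInstance
  haveI : J.Normal := @Subgroup.sup_normal _ _ _ _ inferInstance (phi_normal D)
  set π := QuotientGroup.mk' J
  have hπ1 : ∀ {z : T}, π z = 1 ↔ z ∈ J := fun {z} => QuotientGroup.eq_one_iff z
  have hdec : ∀ t : T, ∃ c ∈ C, ∃ d ∈ D, c * d = t := fun t => mem_sup_of_normal_left.1 (hK.ge (mem_top t))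
  have hcom : ∀ x y : T, ⁅x, y⁆ ∈ J := fun x y => by
    obtain ⟨c, hc, d, hd, rfl⟩ := hdec x
    obtain ⟨c', hc', d', hd', rfl⟩ := hdec y
    rw [mul_commutator_mul (hCD c' hc' d hd).symm (hCD c hc d' hd').symm (hCD c hc d hd).symm
      (hCD c' hc' d' hd').symm]
    exact mul_mem (mem_sup_left (mem_sup_left (mem_sup_left (commutator_mem_commutator hc hc'))))
      (mem_sup_right (mem_sup_left (commutator_mem_commutator hd hd')))
  have hpow : ∀ x : T, x ^ p ∈ J := fun x => by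
    obtain ⟨c, hc, d, hd, rfl⟩ := hdec x
    rw [(hCD c hc d hd).mul_pow]
    exact mul_mem (mem_sup_left (mem_sup_left (mem_sup_right (pow_mem_pw hc))))
      (mem_sup_right (mem_sup_right (pow_mem_pw hd)))
  have lJ := lg_rank hT hr (le_top : J ≤ ⊤) (fun x _ y _ => hcom x y) fun x _ => hpow x
  have lJD := lg_sup (p := p) hT J D
  have hJH : J ⊔ D ≤ P.H := sup_le (sup_le (sup_le (P.phi_le_H C) (inf_le_right.trans (hD.com.le_H P)))
    (P.phi_le_H D)) (hD.com.le_H P)
  set Q := C ⊓ D ⊔ phi p D with hQ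
  have hQD : Q ≤ D := sup_le inf_le_right (phi_le_self D)
  have hJQ : J ⊓ D ≤ Q := fun w hw => by
    obtain ⟨a, ha, f, hf, rfl⟩ := mem_sup_of_normal_left.1 hw.1
    exact mul_mem (mem_sup_left ⟨hAC ha, (Subgroup.mul_mem_cancel_right _ (phi_le_self D hf)).1 hw.2⟩)
      (mem_sup_right hf)
  have l1 := lg_mono (p := p) hJH
  have l2 := lg_mono (p := p) hJQ
  have lT : lg p (⊤ : Subgroup T) = lg p P.H + 2 := by rw [P.lg_top hT false, P.lg_E hT]
  have hQ1 : lg p D ≤ lg p Q + 1 := by omega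
  obtain ⟨d₀, hd₀, hgen⟩ : ∃ d₀ ∈ D, D ≤ zpowers d₀ ⊔ (C ⊓ D) := by
    obtain ⟨d₀, hd₀, h⟩ : ∃ d₀ ∈ D, D ≤ Q ⊔ zpowers d₀ := by
      by_cases hQe : Q = D
      · exact ⟨1, one_mem _, hQe.ge.trans le_sup_left⟩
      obtain ⟨d₀, hd₀, hd₀'⟩ := SetLike.exists_of_lt (lt_of_le_of_ne hQD hQe)
      refine ⟨d₀, hd₀, (eq_of_lg hT (sup_le hQD (zpowers_le.2 hd₀)) ?_).ge⟩
      have := lg_lt hT (lt_of_le_of_ne (le_sup_left : Q ≤ Q ⊔ zpowers d₀) fun e =>
        hd₀' (e.ge (mem_sup_right (mem_zpowers d₀))))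
      omega
    refine ⟨d₀, hd₀, le_of_sup_phi hT (sup_le (zpowers_le.2 hd₀) inf_le_right) (h.trans ?_)⟩
    exact sup_le (sup_le (le_sup_right.trans le_sup_left) le_sup_right) (le_sup_left.trans le_sup_left)
  have hDab : ∀ x ∈ D, ∀ y ∈ D, Commute x y := fun x hx y hy =>
    sup_pair_abelian (U := C ⊓ D) (fun a ha b hb => hCD a ha.1 b hb.2)
      (fun b hb => (hCD b hb.1 d₀ hd₀).symm) x ((sup_comm (zpowers d₀) (C ⊓ D)).le (hgen hx))
      y ((sup_comm (zpowers d₀) (C ⊓ D)).le (hgen hy))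
  intro d hd
  refine mem_center_iff.2 fun t => ?_
  obtain ⟨c, hc, d', hd', rfl⟩ := hdec t
  exact ((hCD c hc d hd).mul_left (hDab d' hd' d hd)).eq

/-- In the small case the group has class two. -/
theorem commutator_le_center_of_small [D.Normal] (hD : P.Core D) (hT : IsPGroup p T) (hp2 : p ≠ 2)
    (hr : RankThreeLE p T) (F : P.Facts D) (hsm : P.IsSmall D) : ∀ s t : T, ⁅s, t⁆ ∈ center T := by
  have hDc := P.core_center hD hT hp2 hr F
  have hlH := hsm.1
  haveI := P.H_normal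
  obtain ⟨h₀, hh₀, hh₀'⟩ := exists_not_mem_of_card (A := D) (B := P.H) (by
    rw [card_lg hT D, card_lg hT P.H]; exact Nat.pow_lt_pow_right hp.out.one_lt (by omega))
  have hHab : ∀ x ∈ P.H, ∀ y ∈ P.H, Commute x y := by
    have heq : D ⊔ zpowers h₀ = P.H := eq_of_lg hT (sup_le (hD.com.le_H P) (zpowers_le.2 hh₀)) (by
      have := lg_lt hT (lt_of_le_of_ne (le_sup_left : D ≤ D ⊔ zpowers h₀) fun e =>
        hh₀' (e.ge (mem_sup_right (mem_zpowers h₀))))
      omega)
    exact fun x hx y hy => sup_pair_abelian (U := D) (fun a ha b _ => (mem_center_iff.1 (hDc ha) b).symm)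
      (fun b hb => mem_center_iff.1 (hDc hb) h₀) x (heq.ge hx) y (heq.ge hy)
  have hHD : ∀ (t : T) (h : T), h ∈ P.H → ⁅t, h⁆ ∈ D := fun t h hh =>
    comm_le_of_lg hT (hD.com.le_H P) (by omega) t hh
  have key : ∀ i, ∀ f ∈ (P.mdl (!i)).E, ∀ h ∈ P.H, Commute h f := by
    intro i f hf h hh
    by_cases hfi : f ∈ (P.mdl i).E
    · exact hHab h hh f ((P.H_eq i).ge ⟨hfi, hf⟩)
    obtain ⟨b, hb⟩ := P.exists_inverts hD hT hp2 hr F (P.lg_X_add_two hT (Or.inl hsm))
    obtain ⟨k, a, ha, hbf, hk⟩ := P.exists_exponent hD hT F (P.lg_X_add_two hT (Or.inl hsm)) hb hf hfi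
    set z := ⁅h, f⁆ with hz
    have hzD : z ∈ D := by rw [hz, ← commutatorElement_inv]; exact inv_mem (hHD f h hh)
    have hzc : z ∈ center T := hDc hzD
    have hd : b h * h ∈ D := (hsm.2 i).le (hb.inv h (P.H_le i hh))
    have hzp : z ^ p = 1 := by
      rw [hz, ← Cfsg.Lib.PGroups.commutator_pow_left_of_commute (mem_center_iff.1 hzc h).symm p,
        commutatorElement_eq_one_iff_commute]
      refine (mem_center_iff.1 (hDc ?_) f).symm
      exact (hsm.2 i).le (mem_sup_left (mem_sup_right (pow_mem_pw (P.H_le i hh))))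
    refine commutatorElement_eq_one_iff_commute.1 (eq_one_of_zpow hp2 hzp hk ?_)
    have h1 := hb.fix z hzD
    rw [hz, map_commutatorElement b, hbf, show b h = b h * h * h⁻¹ by group,
      Cfsg.Lib.PGroups.mul_left_commutator,
      commutatorElement_eq_one_iff_commute.2 (mem_center_iff.1 (hDc hd) (f ^ k * a)).symm, mul_one,
      Cfsg.Lib.PGroups.mul_right_commutator,
      commutatorElement_eq_one_iff_commute.2 (hHab h hh a ha).inv_left, mul_one, mul_inv_cancel, mul_one] at h1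
    have hc' : ⁅h⁻¹, f⁆ ∈ center T := by
      rw [← zpow_neg_one, commutator_zpow_left' hzc]; exact zpow_mem hzc _
    rw [(mem_center_iff.1 (hDc hd) _).symm, mul_inv_cancel_right, commutator_zpow_right hc',
      ← zpow_neg_one h, commutator_zpow_left' hzc, zpow_neg_one, inv_zpow, ← hz] at h1
    rw [zpow_add_one, ← inv_inj, mul_inv_rev, inv_one]
    calc z⁻¹ * (z ^ k)⁻¹ = z⁻¹ * z := by rw [h1]
      _ = 1 := inv_mul_cancel z
  intro s t
  refine mem_center_iff.2 fun w => ?_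
  obtain ⟨x, hx, hxi⟩ := P.exists_mem false
  obtain ⟨l, a, ha, rfl⟩ := exists_decomp (P.mdl true) hxi w
  have hH := P.comm_mem_H s t
  exact ((((key true x hx _ hH).zpow_right l).mul_right (key false a ha _ hH)).eq).symm

/-- The big case has trivial core. -/
theorem eq_bot_of_big [D.Normal] (hD : P.Core D) (hT : IsPGroup p T) (hp2 : p ≠ 2) (hr : RankThreeLE p T)
    (F : P.Facts D) {i : Bool} (hbig : P.IsBig D i) : D = ⊥ := by
  have hDc := P.core_center hD hT hp2 hr F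
  have h2 := P.lg_X_add_two hT (Or.inr hbig)
  obtain ⟨b, hb⟩ := P.exists_inverts hD hT hp2 hr F h2
  set X := P.X D i with hX
  haveI := P.H_normal
  haveI := (P.mdl i).inv_normal (P.inv_X hD i)
  have hlX : lg p X = lg p D + 1 := hbig.lg_X
  have hlH := hbig.lg_H
  have hDX : D ≤ X := le_sup_right
  have hXH : X ≤ P.H := P.X_le_H hD i
  set mk := QuotientGroup.mk' D with hmk
  have hmk1 : ∀ {a : T}, mk a = 1 ↔ a ∈ D := fun {a} => QuotientGroup.eq_one_iff a
  have hXc : ∀ x ∈ X, ∀ t : T, Commute (mk t) (mk x) := fun x hx t => by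
    rw [← commutatorElement_eq_one_iff_commute, ← map_commutatorElement, hmk1]
    exact comm_le_of_lg hT hDX (by omega) t hx
  have hpowi : ∀ e ∈ (P.mdl i).E, e ^ p ∈ D := fun e he => by
    rw [← hmk1, map_pow]
    exact hbig.pearl.2.1 _ (mem_map_of_mem mk he)
  -- the automorphism fixes the Frattini part
  have hfixX : ∀ x ∈ X, b x = x := by
    let U : Subgroup T :=
      { carrier := {x | x ∈ X ∧ mk (b x) = mk x}
        one_mem' := ⟨one_mem _, by rw [map_one]⟩
        mul_mem' := fun {x y} hx hy => ⟨mul_mem hx.1 hy.1, by rw [map_mul, map_mul, map_mul, hx.2, hy.2]⟩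
        inv_mem' := fun {x} hx => ⟨inv_mem hx.1, by rw [map_inv, map_inv, map_inv, hx.2]⟩ }
    have hle : X ≤ U := by
      refine sup_le (sup_le (Subgroup.commutator_le.2 fun a ha c hc => ?_) (pw_le_iff.2 fun a ha => ?_))
        fun d hd => ⟨hDX hd, by rw [hb.fix d hd]⟩
      · refine ⟨mem_sup_left (mem_sup_left (commutator_mem_commutator ha hc)), ?_⟩
        have hcen : ⁅mk a, mk c⁆ ∈ center (T ⧸ D) := mem_center_iff.2 fun z => by
          obtain ⟨z, rfl⟩ := QuotientGroup.mk'_surjective D z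
          rw [← map_commutatorElement]
          exact hXc _ (mem_sup_left (mem_sup_left (commutator_mem_commutator ha hc))) z
        have hcen' : ⁅(mk a)⁻¹, mk c⁆ ∈ center (T ⧸ D) := by
          rw [← zpow_neg_one, commutator_zpow_left' hcen]; exact zpow_mem hcen _
        rw [map_commutatorElement b, map_commutatorElement, map_commutatorElement,
          show b a = b a * a * a⁻¹ by group, show b c = b c * c * c⁻¹ by group, map_mul, map_mul mk (b c * c),
          map_inv, map_inv,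
          mul_commutator_mul (hXc _ (hb.inv c hc) a).inv_left (hXc _ (hb.inv a ha) c).inv_left
            (hXc _ (hb.inv a ha) a).inv_left (hXc _ (hb.inv c hc) c).inv_left]
        rw [commutatorElement_eq_one_iff_commute.2 (hXc _ (hb.inv c hc) _), one_mul,
          ← zpow_neg_one (mk c), commutator_zpow_right hcen', ← zpow_neg_one (mk a),
          commutator_zpow_left' hcen, ← zpow_mul]
        norm_num
      · refine ⟨hDX (hpowi a ha), ?_⟩
        rw [hb.fix _ (hpowi a ha)]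
    intro x hx
    obtain ⟨m, hm, hbm⟩ := hb.order
    have hd : x⁻¹ * b x ∈ D := by
      rw [← hmk1, map_mul, map_inv, (hle hx).2, inv_mul_cancel]
    have hit : ∀ n : ℕ, (b ^ n) x = x * (x⁻¹ * b x) ^ n := fun n => by
      induction n with
      | zero => simp
      | succ n ih => rw [pow_succ', MulAut.mul_apply, ih, map_mul, map_pow, hb.fix _ hd, pow_succ', ← mul_assoc x, mul_inv_cancel_left]
    have h1 := hit m
    rw [hbm, MulAut.one_apply, left_eq_mul] at h1
    exact (inv_mul_eq_one.1 (eq_one_of_coprime_pow hT hm h1)).symm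
  have hXab : ∀ x ∈ X, ∀ y ∈ X, Commute x y := by
    obtain ⟨z, hz, hz'⟩ := exists_not_mem_of_card (A := D) (B := X) (by
      rw [card_lg hT D, card_lg hT X]; exact Nat.pow_lt_pow_right hp.out.one_lt (by omega))
    have heq : D ⊔ zpowers z = X := eq_of_lg hT (sup_le hDX (zpowers_le.2 hz)) (by
      have := lg_lt hT (lt_of_le_of_ne (le_sup_left : D ≤ D ⊔ zpowers z) fun e =>
        hz' (e.ge (mem_sup_right (mem_zpowers z))))
      omega)
    exact fun x hx y hy => sup_pair_abelian (U := D) (fun a ha c _ => (mem_center_iff.1 (hDc ha) c).symm)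
      (fun c hc => mem_center_iff.1 (hDc hc) z) x (heq.ge hx) y (heq.ge hy)
  obtain ⟨h₀, hh₀, hh₀'⟩ := exists_not_mem_of_card (A := X) (B := P.H) (by
    rw [card_lg hT X, card_lg hT P.H]; exact Nat.pow_lt_pow_right hp.out.one_lt (by omega))
  have hHeq : X ⊔ zpowers h₀ = P.H := eq_of_lg hT (sup_le hXH (zpowers_le.2 hh₀)) (by
    have := lg_lt hT (lt_of_le_of_ne (le_sup_left : X ≤ X ⊔ zpowers h₀) fun e =>
      hh₀' (e.ge (mem_sup_right (mem_zpowers h₀))))
    omega)
  have hHab : ∀ x ∈ P.H, ∀ y ∈ P.H, Commute x y := by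
    have hzX : ∀ z ∈ X, Commute h₀ z := fun z hz => by
      have hcd : ⁅h₀, z⁆ ∈ D := hbig.comm_mem h₀ (P.H_le _ hh₀) z (P.H_le _ (hXH hz))
      have h1 := hb.fix _ hcd
      rw [map_commutatorElement, hfixX z hz, show b h₀ = b h₀ * h₀ * h₀⁻¹ by group,
        Cfsg.Lib.PGroups.mul_left_commutator,
        commutatorElement_eq_one_iff_commute.2 (hXab _ (hb.inv h₀ (P.H_le i hh₀)) z hz), mul_one,
        ← zpow_neg_one h₀, commutator_zpow_left' (hDc hcd), zpow_neg_one,
        mem_center_iff.1 (inv_mem (hDc hcd)) (b h₀ * h₀), mul_inv_cancel_right] at h1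
      exact commutatorElement_eq_one_iff_commute.1 (eq_one_of_sq hT hp2 (inv_eq_iff_mul_eq_one.1 h1))
    exact fun x hx y hy => sup_pair_abelian hXab hzX x (hHeq.ge hx) y (hHeq.ge hy)
  -- an inverted element
  set x₀ := b h₀ * h₀ with hx₀
  have hx₀X : x₀ ∈ X := hb.inv h₀ (P.H_le i hh₀)
  set h₁ := h₀ * (b h₀)⁻¹ with hh₁def
  have hbh₀ : b h₀ = x₀ * h₀⁻¹ := by rw [hx₀, mul_inv_cancel_right]
  have hh₁ : h₁ ∈ P.H := mul_mem hh₀ (inv_mem (by rw [hbh₀]; exact mul_mem (hXH hx₀X) (inv_mem hh₀)))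
  have hbh₁ : b h₁ = h₁⁻¹ := by
    have hc : Commute x₀ h₀⁻¹ := (hHab _ (hXH hx₀X) _ hh₀).inv_right
    have hbb : b (b h₀) = h₀ := by
      rw [hbh₀, map_mul, map_inv, hfixX _ hx₀X, hbh₀, mul_inv_rev, inv_inv, ← mul_assoc,
        (hHab _ (hXH hx₀X) _ hh₀).eq, mul_inv_cancel_right]
    rw [hh₁def, map_mul, map_inv, hbb, mul_inv_rev, inv_inv]
  have hh₁X : h₁ ∉ X := fun h => hh₀' (by
    have h2' : h₀ ^ (2 : ℤ) ∈ X := by
      have := mul_mem h hx₀X
      rwa [hh₁def, hbh₀, mul_inv_rev, inv_inv, mul_assoc, mul_assoc, inv_mul_cancel, mul_one, ← zpow_two] at this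
    exact mem_of_zpow_mem (hDX (hpowi h₀ (P.H_le i hh₀))) (not_dvd_two hp2) h2')
  obtain ⟨u, hu, huj⟩ := P.exists_mem i
  obtain ⟨v, hv, hvi⟩ : ∃ v ∈ (P.mdl (!i)).E, v ∉ (P.mdl i).E := by
    have := P.exists_mem (!i); rwa [Bool.not_not] at this
  obtain ⟨k, a, ha, hbv, hk⟩ := P.exists_exponent hD hT F h2 hb hv hvi
  set M := P.mdl (!i)
  have hvh₁ : Commute v h₁ := by
    have hzD : ⁅v, h₁⁆ ∈ D := hbig.comm_mem v hv h₁ (P.H_le _ hh₁)
    have hzc := hDc hzD
    have hzp : ⁅v, h₁⁆ ^ p = 1 := by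
      rw [← Cfsg.Lib.PGroups.commutator_pow_left_of_commute (mem_center_iff.1 hzc v).symm p,
        commutatorElement_eq_one_iff_commute]
      exact (mem_center_iff.1 (hDc (hbig.pow_mem v hv)) h₁).symm
    refine commutatorElement_eq_one_iff_commute.1 (eq_one_of_zpow hp2 hzp hk ?_)
    have h1 := hb.fix _ hzD
    rw [map_commutatorElement, hbv, hbh₁, Cfsg.Lib.PGroups.mul_left_commutator,
      commutatorElement_eq_one_iff_commute.2 (hHab a ha h₁ hh₁).inv_right, mul_one, mul_inv_cancel,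
      one_mul] at h1
    have hc' : ⁅v, h₁⁻¹⁆ ∈ center T := by
      rw [← zpow_neg_one h₁, commutator_zpow_right hzc]; exact zpow_mem hzc _
    rw [commutator_zpow_left' hc', ← zpow_neg_one h₁, commutator_zpow_right hzc, ← zpow_mul, neg_one_mul,
      zpow_neg, inv_eq_iff_mul_eq_one] at h1
    rw [zpow_add_one, h1]
  set Z := M.E ⊓ centralizer (M.E : Set T) with hZ
  have hZi : M.Inv Z := M.inv_centralizer M.inv_E
  haveI := M.inv_normal hZi
  have hvdec : ∀ w ∈ M.E, ∃ l : ℤ, ∃ h ∈ P.H, w = v ^ l * h := fun w hw => by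
    obtain ⟨l, h, hh, rfl⟩ := exists_decomp (P.mdl i) hvi w
    exact ⟨l, h, (P.H_eq i).ge ⟨hh, (Subgroup.mul_mem_cancel_left _ (zpow_mem hv l)).1 hw⟩, rfl⟩
  have hh₁Z : h₁ ∈ Z := ⟨P.H_le _ hh₁, mem_centralizer_iff.2 fun w hw => by
    obtain ⟨l, h, hh, rfl⟩ := hvdec w hw
    exact ((hvh₁.zpow_left l).mul_left (hHab h hh h₁ hh₁)).eq⟩
  have hcomu : ⁅u, h₁⁆ ∈ X := mem_sup_left (mem_sup_left (commutator_mem_commutator hu (P.H_le i hh₁)))
  have hcomD : ⁅u, h₁⁆ ∉ D := fun h => by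
    -- otherwise the intersection is central modulo the core
    have hH : ∀ w ∈ P.H, ∀ t : T, Commute (mk t) (mk w) := by
      have hle : P.H ≤ (center (T ⧸ D)).comap mk := by
        have hh₁c : h₁ ∈ (center (T ⧸ D)).comap mk := mem_center_iff.2 fun z => by
          obtain ⟨z, rfl⟩ := QuotientGroup.mk'_surjective D z
          obtain ⟨l, w, hw, rfl⟩ := exists_decomp M huj z
          rw [map_mul, map_zpow]
          refine ((Commute.zpow_left ?_ l).mul_left ?_).eq
          · rwa [← commutatorElement_eq_one_iff_commute, ← map_commutatorElement, hmk1]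
          · rw [← commutatorElement_eq_one_iff_commute, ← map_commutatorElement, hmk1]
            exact hbig.comm_mem w hw h₁ (P.H_le _ hh₁)
        have heq : X ⊔ zpowers h₁ = P.H := eq_of_lg hT (sup_le hXH (zpowers_le.2 hh₁)) (by
          have := lg_lt hT (lt_of_le_of_ne (le_sup_left : X ≤ X ⊔ zpowers h₁) fun e =>
            hh₁X (e.ge (mem_sup_right (mem_zpowers h₁))))
          omega)
        rw [← heq]
        refine sup_le (fun x hx => mem_center_iff.2 fun z => ?_) (zpowers_le.2 hh₁c)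
        obtain ⟨z, rfl⟩ := QuotientGroup.mk'_surjective D z
        exact hXc x hx z
      exact fun w hw t => mem_center_iff.1 (hle hw) (mk t)
    obtain ⟨-, W, -, -, -, -, c, -, -, w, -, hcw⟩ := hbig.shape
    obtain ⟨c, rfl⟩ := QuotientGroup.mk'_surjective D c
    obtain ⟨w, rfl⟩ := QuotientGroup.mk'_surjective D w
    refine hcw ?_
    rw [← map_commutatorElement, commutatorElement_eq_one_iff_commute]
    exact hH _ (P.comm_mem_H c w) c
  have hXle : ∀ O : Subgroup T, O.Normal → h₁ ∈ O → D ≤ O → P.H ≤ O := fun O hO h1 hDO => by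
    have hc : ⁅u, h₁⁆ ∈ O := mul_mem (hO.conj_mem _ h1 u) (inv_mem h1)
    have heq : D ⊔ zpowers ⁅u, h₁⁆ = X := eq_of_lg hT (sup_le hDX (zpowers_le.2 hcomu)) (by
      have := lg_lt hT (lt_of_le_of_ne (le_sup_left : D ≤ D ⊔ zpowers ⁅u, h₁⁆) fun e =>
        hcomD (e.ge (mem_sup_right (mem_zpowers _))))
      omega)
    have heq' : X ⊔ zpowers h₁ = P.H := eq_of_lg hT (sup_le hXH (zpowers_le.2 hh₁)) (by
      have := lg_lt hT (lt_of_le_of_ne (le_sup_left : X ≤ X ⊔ zpowers h₁) fun e =>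
        hh₁X (e.ge (mem_sup_right (mem_zpowers h₁))))
      omega)
    rw [← heq', ← heq]
    exact sup_le (sup_le hDO (zpowers_le.2 hc)) (zpowers_le.2 h1)
  have hinvH : ∀ O : Subgroup T, M.Inv O → h₁ ∈ O → D ≤ O → O = M.E := fun O hO h1 hDO =>
    P.eq_of_H_lt hT (!i) hO.1 (hXle O (M.inv_normal hO) h1 hDO) fun e => F.not_inv (!i) (e ▸ hO)
  have hZE : Z = M.E := hinvH Z hZi hh₁Z fun d hd => ⟨(hD.com.1 _).1 hd,
    mem_centralizer_iff.2 fun w _ => mem_center_iff.1 (hDc hd) w⟩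
  have hEab : ∀ x ∈ M.E, ∀ y ∈ M.E, Commute x y := fun x hx y hy =>
    (mem_centralizer_iff.1 (hZE.ge hx).2 y hy).symm
  have hh₁p : h₁ ^ p = 1 := by
    have hpD := hpowi h₁ (P.H_le i hh₁)
    have h1 := hb.fix _ hpD
    rw [map_pow, hbh₁, inv_pow] at h1
    exact eq_one_of_sq hT hp2 (inv_eq_iff_mul_eq_one.1 h1)
  let Om : Subgroup T :=
    { carrier := {x | x ∈ M.E ∧ x ^ p = 1}
      one_mem' := ⟨one_mem _, one_pow _⟩
      mul_mem' := fun {x y} hx hy => ⟨mul_mem hx.1 hy.1, by rw [(hEab x hx.1 y hy.1).mul_pow, hx.2, hy.2, one_mul]⟩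
      inv_mem' := fun {x} hx => ⟨inv_mem hx.1, by rw [inv_pow, hx.2, inv_one]⟩ }
  have hOmi : M.Inv Om := ⟨fun x hx => hx.1, fun g x hx => ⟨M.cj_mem hx.1, by rw [← M.cj_pow hx.1, hx.2, M.cj_one]⟩⟩
  have hsup : Om ⊔ D = M.E := hinvH _ (M.inv_sup hOmi (hD.com.1 _))
    (mem_sup_left ⟨P.H_le _ hh₁, hh₁p⟩) le_sup_right
  have hphi : phi p M.E ≤ pw p D := sup_le
    (Subgroup.commutator_le.2 fun x hx y hy => by
      rw [commutatorElement_eq_one_iff_commute.2 (hEab x hx y hy)]; exact one_mem _)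
    (pw_le_iff.2 fun x hx => by
      obtain ⟨o, ho, d, hd, rfl⟩ := mem_sup_of_normal_right.1 (hsup.ge hx)
      rw [(hEab o ho.1 d ((hD.com.1 _).1 hd)).mul_pow, ho.2, one_mul]
      exact pow_mem_pw hd)
  by_contra hne
  have l1 : lg p (pw p D) + 1 ≤ lg p D := lg_lt hT (lt_of_le_of_ne (pw_le_self D) fun e => hne (le_bot_iff.1
    (le_of_sup_phi hT bot_le (by rw [bot_sup_eq]; exact e.ge.trans le_sup_right))))
  have l2 : lg p M.E ≤ 3 + lg p (phi p M.E) := lg_phi hT hr M.E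
  have l3 := lg_mono (p := p) hphi
  have l4 : lg p M.E = lg p P.H + 1 := P.lg_E hT (!i)
  omega

/-- A nontrivial core forces class two. -/
theorem commutator_le_center [D.Normal] (hD : P.Core D) (hT : IsPGroup p T) (hp2 : p ≠ 2)
    (hr : RankThreeLE p T) (hne : D ≠ ⊥) : ∀ s t : T, ⁅s, t⁆ ∈ center T := by
  have F := P.facts hD hT hp2 hr
  rcases F.cases with h | ⟨i, h⟩
  · exact P.commutator_le_center_of_small hD hT hp2 hr F h
  · exact absurd (P.eq_bot_of_big hD hT hp2 hr F h) hne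

end Duo

end Cfsg.Lib.Fusion.RankThreePair
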