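import Cfsg.Agent.Fusion.RankThreeTwo.Tools

/-!
Two models with common automorphisms: their invariant subgroups and the intersection of the two
subgroups, which is not invariant in both.
-/

set_option autoImplicit false
set_option linter.unusedSectionVars false
set_option linter.style.haveILetI false

namespace Cfsg.Lib.Fusion.RankThreePair

open Subgroup Cfsg.Lib.Fusion.RankThree
open scoped commutatorElement

universe u

variable {p : ℕ} [hp : Fact p.Prime] {T : Type u} [Group T] [Finite T]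

/-- The logarithm of the order. -/
noncomputable def lg (p : ℕ) {T : Type u} [Group T] (A : Subgroup T) : ℕ := Nat.log p (Nat.card A)

theorem card_lg (hT : IsPGroup p T) (A : Subgroup T) : Nat.card A = p ^ lg p A := by
  obtain ⟨n, hn⟩ := card_eq_pow hT A
  rw [lg, hn, Nat.log_pow hp.out.one_lt]

theorem lg_mono {A B : Subgroup T} (h : A ≤ B) : lg p A ≤ lg p B :=
  Nat.log_mono_right (Subgroup.card_le_of_le h)

theorem lg_lt (hT : IsPGroup p T) {A B : Subgroup T} (h : A < B) : lg p A + 1 ≤ lg p B := by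
  have h1 := card_mul_le hT h
  rw [card_lg hT A, card_lg hT B, ← pow_succ'] at h1
  exact (Nat.pow_le_pow_iff_right hp.out.one_lt).1 h1

theorem eq_of_lg (hT : IsPGroup p T) {A B : Subgroup T} (h : A ≤ B) (hl : lg p B ≤ lg p A) : A = B := by
  by_contra hne
  have := lg_lt hT (lt_of_le_of_ne h hne)
  omega

theorem lg_bot : lg p (⊥ : Subgroup T) = 0 := by rw [lg, Subgroup.card_bot, Nat.log_one_right]

theorem lg_sup (hT : IsPGroup p T) (A B : Subgroup T) [A.Normal] :
    lg p (A ⊔ B) + lg p (A ⊓ B) = lg p A + lg p B := by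
  have h := card_sup A B
  rw [card_lg hT A, card_lg hT B, card_lg hT (A ⊔ B), card_lg hT (A ⊓ B), ← pow_add, ← pow_add] at h
  exact Nat.pow_right_injective hp.out.two_le h

theorem lg_rank (hT : IsPGroup p T) (hr : RankThreeLE p T) {X K : Subgroup T} (hKX : K ≤ X)
    (hc : ∀ x ∈ X, ∀ y ∈ X, ⁅x, y⁆ ∈ K) (hpow : ∀ x ∈ X, x ^ p ∈ K) : lg p X ≤ 3 + lg p K := by
  have h := hr X K hKX hc hpow
  rw [card_lg hT X, card_lg hT K, ← pow_add] at h
  exact (Nat.pow_le_pow_iff_right hp.out.one_lt).1 h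

theorem lg_phi (hT : IsPGroup p T) (hr : RankThreeLE p T) (X : Subgroup T) :
    lg p X ≤ 3 + lg p (phi p X) :=
  lg_rank hT hr (phi_le_self X) (fun _ hx _ hy => mem_sup_left (commutator_mem_commutator hx hy))
    fun _ hx => mem_sup_right (pow_mem_pw hx)

theorem comm_le_of_lg (hT : IsPGroup p T) {N M : Subgroup T} [N.Normal] [M.Normal] (hNM : N ≤ M)
    (h : lg p M ≤ lg p N + 1) (t : T) {m : T} (hm : m ∈ M) : ⁅t, m⁆ ∈ N :=
  comm_le_of_small hT (by
    rw [card_lg hT M, card_lg hT N, ← pow_succ']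
    exact Nat.pow_le_pow_right hp.out.pos h) hNM t hm

theorem card_map_mk (N : Subgroup T) [N.Normal] {A : Subgroup T} (h : N ≤ A) :
    Nat.card (A.map (QuotientGroup.mk' N)) * Nat.card N = Nat.card A := by
  rw [← (N.subgroupOf A).card_mul_index, Nat.card_congr (subgroupOfEquivOfLe h).toEquiv,
    ← Subgroup.relIndex, mul_comm]
  congr 1
  rw [← Subgroup.relIndex_ker, QuotientGroup.ker_mk']

theorem lg_map_mk (hT : IsPGroup p T) (N : Subgroup T) [N.Normal] {A : Subgroup T} (h : N ≤ A) :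
    lg p (A.map (QuotientGroup.mk' N)) + lg p N = lg p A := by
  have h1 := card_map_mk N h
  rw [card_lg (hT.to_quotient N), card_lg hT N, card_lg hT A, ← pow_add] at h1
  exact Nat.pow_right_injective hp.out.two_le h1

/-- A normal subgroup generated modulo `J` by commutators with itself lies in `J`. -/
theorem le_of_le_comm_sup (hT : IsPGroup p T) {N J : Subgroup T} [J.Normal]
    (h : N ≤ ⁅(⊤ : Subgroup T), N⁆ ⊔ J) : N ≤ J := by
  haveI := hT.isNilpotent
  obtain ⟨n, hn⟩ := Subgroup.nilpotent_iff_lowerCentralSeries.1 ‹Group.IsNilpotent T›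
  have key : ∀ k, N ≤ (⊤ : Subgroup T).lowerCentralSeries k ⊔ J := by
    intro k
    induction k with
    | zero => exact le_sup_of_le_left le_top
    | succ k ih =>
      refine h.trans (sup_le (Subgroup.commutator_le.2 fun t _ x hx => ?_) le_sup_right)
      obtain ⟨a, ha, b, hb, rfl⟩ := mem_sup_of_normal_right.1 (ih hx)
      rw [Cfsg.Lib.PGroups.mul_right_commutator]
      refine Subgroup.mul_mem_sup ?_ (Subgroup.Normal.conj_mem ‹_› _ ?_ a)
      · rw [Subgroup.lowerCentralSeries_succ, Subgroup.commutator_comm]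
        exact commutator_mem_commutator (mem_top _) ha
      · rw [commutatorElement_def]
        exact mul_mem (Subgroup.Normal.conj_mem ‹_› b hb t) (inv_mem hb)
  have h1 := key n
  rwa [hn, bot_sup_eq] at h1

/-- Two models with common automorphisms. -/
structure Duo (p : ℕ) (T : Type u) [Group T] where
  /-- The models. -/
  mdl : Bool → Mdl p T
  /-- The automorphisms. -/
  B : Subgroup (MulAut T)
  ne : (mdl false).E ≠ (mdl true).E
  inner : ∀ b ∈ B, (∃ k : ℕ, b ^ p ^ k = 1) → ∃ s : T, ∀ t, b t = s * t * s⁻¹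
  norm : ∀ (i : Bool) (g : (mdl i).G), (∀ t, ∃ t', (mdl i).ι t' = g * (mdl i).ι t * g⁻¹) →
    ∃ b ∈ B, ∀ t, (mdl i).ι (b t) = g * (mdl i).ι t * g⁻¹
  move : ∀ b ∈ B, ∀ i, ∀ X : Subgroup T, (mdl i).Inv X → (mdl i).Inv (X.map b.toMonoidHom)

namespace Duo

variable (P : Duo p T)

/-- The intersection of the two subgroups. -/
def H : Subgroup T := (P.mdl false).E ⊓ (P.mdl true).E

/-- A subgroup invariant in both models and under the automorphisms. -/
def Com (R : Subgroup T) : Prop :=
  (∀ i, (P.mdl i).Inv R) ∧ ∀ b ∈ P.B, R.map b.toMonoidHom = R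

theorem E_ne (i : Bool) : (P.mdl i).E ≠ (P.mdl (!i)).E := by
  cases i
  · exact P.ne
  · exact P.ne.symm

theorem H_eq (i : Bool) : P.H = (P.mdl i).E ⊓ (P.mdl (!i)).E := by
  cases i
  · rfl
  · exact inf_comm _ _

theorem H_le (i : Bool) : P.H ≤ (P.mdl i).E := P.H_eq i ▸ inf_le_left

theorem exists_mem (i : Bool) : ∃ x ∈ (P.mdl i).E, x ∉ (P.mdl (!i)).E := exists_not_mem_E (P.E_ne i)

instance H_normal : P.H.Normal :=
  @Subgroup.normal_inf_normal _ _ _ _ (P.mdl false).E_normal (P.mdl true).E_normal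

theorem comm_mem_H (s t : T) : ⁅s, t⁆ ∈ P.H :=
  ⟨(P.mdl false).commutator_mem_E s t, (P.mdl true).commutator_mem_E s t⟩

theorem pow_mem_H (t : T) : t ^ p ∈ P.H := ⟨(P.mdl false).pow_mem_E t, (P.mdl true).pow_mem_E t⟩

theorem phi_le_H (X : Subgroup T) : phi p X ≤ P.H :=
  sup_le (Subgroup.commutator_le.2 fun x _ y _ => P.comm_mem_H x y) (pw_le_iff.2 fun x _ => P.pow_mem_H x)

theorem sup_eq_top (i : Bool) : (P.mdl i).E ⊔ (P.mdl (!i)).E = ⊤ := by
  obtain ⟨x, hx, hxE⟩ := P.exists_mem i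
  exact (P.mdl (!i)).eq_top_of_lt le_sup_right (mem_sup_left hx) hxE

theorem lg_top (hT : IsPGroup p T) (i : Bool) : lg p (⊤ : Subgroup T) = lg p (P.mdl i).E + 1 := by
  have h := (P.mdl i).E.card_mul_index
  rw [(P.mdl i).index_eq, card_lg hT, (Subgroup.card_top (G := T)).symm.trans (card_lg hT ⊤), ← pow_succ] at h
  exact (Nat.pow_right_injective hp.out.two_le h).symm

theorem lg_E (hT : IsPGroup p T) (i : Bool) : lg p (P.mdl i).E = lg p P.H + 1 := by
  haveI := (P.mdl i).E_normal
  have h := lg_sup (p := p) hT (P.mdl i).E (P.mdl (!i)).E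
  rw [P.sup_eq_top, ← P.H_eq, P.lg_top hT (!i)] at h
  omega

theorem eq_of_H_lt (hT : IsPGroup p T) (i : Bool) {X : Subgroup T} (hX : X ≤ (P.mdl i).E) (hHX : P.H ≤ X)
    (hne : X ≠ P.H) : X = (P.mdl i).E := by
  refine eq_of_lg hT hX ?_
  rw [P.lg_E hT]
  exact lg_lt hT (lt_of_le_of_ne hHX (Ne.symm hne))

theorem Com.le_H {R : Subgroup T} (h : P.Com R) : R ≤ P.H := le_inf (h.1 false).1 (h.1 true).1

theorem Com.normal {R : Subgroup T} (h : P.Com R) : R.Normal := (P.mdl false).inv_normal (h.1 false)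

theorem Com.sup {R R' : Subgroup T} (h : P.Com R) (h' : P.Com R') : P.Com (R ⊔ R') :=
  ⟨fun i => (P.mdl i).inv_sup (h.1 i) (h'.1 i), fun b hb => by rw [Subgroup.map_sup, h.2 b hb, h'.2 b hb]⟩

theorem map_E {b : MulAut T} (hb : b ∈ P.B) (i : Bool) :
    (P.mdl i).E.map b.toMonoidHom = (P.mdl i).E :=
  Subgroup.eq_of_le_of_card_ge (P.move b hb i _ (P.mdl i).inv_E).1
    (Subgroup.card_map_of_injective b.injective).ge

theorem map_H {b : MulAut T} (hb : b ∈ P.B) : P.H.map b.toMonoidHom = P.H := by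
  rw [H, Subgroup.map_inf _ _ _ b.injective, P.map_E hb, P.map_E hb]

theorem com_bot : P.Com ⊥ := ⟨fun i => (P.mdl i).inv_bot, fun _ _ => Subgroup.map_bot _⟩

theorem exists_core : ∃ D, P.Com D ∧ ∀ R, P.Com R → R ≤ D := by
  haveI : Nonempty {R // P.Com R} := ⟨⟨⊥, P.com_bot⟩⟩
  obtain ⟨⟨D, hD⟩, hmax⟩ := Finite.exists_max fun R : {R // P.Com R} => Nat.card R.1
  refine ⟨D, hD, fun R hR => ?_⟩
  have h := hmax ⟨D ⊔ R, hD.sup P hR⟩
  have h' := Subgroup.eq_of_le_of_card_ge (le_sup_left : D ≤ D ⊔ R) h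
  exact h' ▸ le_sup_right

/-- The intersection is not invariant in both models. -/
theorem not_inv_H (hT : IsPGroup p T) (hr : RankThreeLE p T) (h0 : (P.mdl false).Inv P.H)
    (h1 : (P.mdl true).Inv P.H) : False := by
  set Mi := P.mdl false
  set Mj := P.mdl true
  set H := P.H
  set J := phi p H
  haveI : J.Normal := phi_normal H
  have hJH : J ≤ H := phi_le_self H
  obtain ⟨y, hy, hyj⟩ : ∃ y ∈ Mi.E, y ∉ Mj.E := P.exists_mem false
  obtain ⟨x, hx, hxi⟩ : ∃ x ∈ Mj.E, x ∉ Mi.E := P.exists_mem true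
  haveI := Mi.E_normal
  set W1 := ⁅Mi.E, H⁆ ⊔ J with hW1
  set W2 := ⁅Mi.E, W1⁆ ⊔ J with hW2
  have hW1H : W1 ≤ H := sup_le (Subgroup.commutator_le_right _ _) hJH
  have hW21 : W2 ≤ W1 := sup_le_sup_right (Subgroup.commutator_mono le_rfl hW1H) J
  have hJ0 := Mi.inv_phi h0
  have hW1i : Mi.Inv W1 := Mi.inv_sup (Mi.inv_commutator Mi.inv_E h0) hJ0
  have hW2i : Mi.Inv W2 := Mi.inv_sup (Mi.inv_commutator Mi.inv_E hW1i) hJ0
  haveI := Mi.inv_normal hW1i
  haveI := Mi.inv_normal hW2i
  have hyJ : ¬ ∀ h ∈ H, ⁅y, h⁆ ∈ J := fun hall =>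
    hyj (Mj.stab_phi hT (n := 2) (fun i => match i with | 0 => Mj.E | 1 => H | _ => J) rfl (by norm_num)
      le_rfl
      (fun i hi => match i, hi with
        | 0, _ => Mj.inv_E
        | 1, _ => h1
        | _ + 2, _ => Mj.inv_phi h1)
      fun i hi e he => match i, hi, he with
        | 0, _, _ => P.comm_mem_H y e
        | 1, _, he => hall e he)
  have hJW : J < W1 := lt_of_le_of_ne le_sup_right fun e => hyJ fun h hh =>
    e.ge (mem_sup_left (commutator_mem_commutator hy hh))
  have hWH : W1 < H := lt_of_le_of_ne hW1H fun e => by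
    have h2 : H ≤ J := le_of_le_comm_sup hT (e.ge.trans (sup_le_sup_right (Subgroup.commutator_mono le_top le_rfl) J))
    exact hyJ fun h hh => h2 ((Subgroup.commutator_le_right _ _) (commutator_mem_commutator hy hh))
  have l0 := lg_lt hT hJW
  have l1 := lg_lt hT hWH
  have l3 : lg p H ≤ 3 + lg p J := lg_phi hT hr H
  have hchain : ∀ A B : Subgroup T, Mi.Inv A → Mi.Inv B → A ≤ B → lg p B ≤ lg p A + 1 →
      ∀ e ∈ B, ⁅x, e⁆ ∈ A := fun A B hA hB hAB hl e he => by
    haveI := Mi.inv_normal hA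
    haveI := Mi.inv_normal hB
    exact comm_le_of_lg hT hAB hl x he
  have kill : ∀ F : Subgroup T, Mi.Inv F → J ≤ F → ∀ G : Subgroup T, Mi.Inv G → J ≤ G → G ≤ F → F ≤ H →
      lg p H ≤ lg p F + 1 → lg p F ≤ lg p G + 1 → lg p G ≤ lg p J + 1 → False := by
    intro F hF _ G hG hJG hGF hFH a b c
    exact hxi (Mi.stab_phi hT (n := 4)
      (fun i => match i with | 0 => Mi.E | 1 => H | 2 => F | 3 => G | _ => J) rfl (by norm_num) le_rfl
      (fun i hi => match i, hi with
        | 0, _ => Mi.inv_E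
        | 1, _ => h0
        | 2, _ => hF
        | 3, _ => hG
        | _ + 4, _ => hJ0)
      fun i hi e he => match i, hi, he with
        | 0, _, _ => P.comm_mem_H x e
        | 1, _, he => hchain F H hF h0 hFH a e he
        | 2, _, he => hchain G F hG hF hGF b e he
        | 3, _, he => hchain J G hJ0 hG hJG c e he)
  by_cases hW2J : W2 = J
  · -- the second term is small: the action of `y` is a homomorphism
    set π := QuotientGroup.mk' J
    have hπ1 : ∀ {a : T}, a ∈ J → π a = 1 := fun h => (QuotientGroup.eq_one_iff _).2 h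
    have hEW : ∀ a ∈ Mi.E, ∀ w ∈ W1, π a * π w = π w * π a := fun a ha w hw => by
      rw [← commutatorElement_eq_one_iff_mul_comm, ← map_commutatorElement]
      exact hπ1 (hW2J.le (mem_sup_left (commutator_mem_commutator ha hw)))
    have hW1h : ∀ h ∈ H, ⁅y, h⁆ ∈ W1 := fun h hh => mem_sup_left (commutator_mem_commutator hy hh)
    let f : H →* T ⧸ J :=
      { toFun := fun h => π ⁅y, (h : T)⁆
        map_one' := by simp
        map_mul' := fun a b => by
          rw [Subgroup.coe_mul, Cfsg.Lib.PGroups.mul_right_commutator, map_mul, map_mul, map_mul, map_inv,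
            hEW a (P.H_le false a.2) _ (hW1h b b.2), mul_inv_cancel_right] }
    let F : Subgroup T :=
      { carrier := {h | h ∈ H ∧ ∀ e ∈ Mi.E, ⁅e, h⁆ ∈ J}
        one_mem' := ⟨one_mem _, fun e _ => by rw [commutatorElement_one_right]; exact one_mem _⟩
        mul_mem' := fun {a b} ha hb => ⟨mul_mem ha.1 hb.1, fun e he => by
          rw [Cfsg.Lib.PGroups.mul_right_commutator]
          exact mul_mem (ha.2 e he) (Subgroup.Normal.conj_mem ‹_› _ (hb.2 e he) a)⟩
        inv_mem' := fun {a} ha => ⟨inv_mem ha.1, fun e he => by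
          rw [show ⁅e, a⁻¹⁆ = a⁻¹ * ⁅e, a⁆⁻¹ * a⁻¹⁻¹ by simp only [commutatorElement_def]; group]
          exact Subgroup.Normal.conj_mem ‹_› _ (inv_mem (ha.2 e he)) a⁻¹⟩ }
    have hFH : F ≤ H := fun h hh => hh.1
    have hFi : Mi.Inv F := ⟨hFH.trans (P.H_le false), fun g h hh => ⟨h0.2 g h hh.1, fun e he => by
      have hhE : h ∈ Mi.E := P.H_le false hh.1
      have := hJ0.2 g _ (hh.2 _ (Mi.cj_mem (g := g⁻¹) he))
      rwa [Mi.cj_comm (Mi.cj_mem he) hhE, Mi.cj_cj_inv he] at this⟩⟩
    have hW1F : W1 ≤ F := fun w hw => ⟨hW1H hw, fun e he =>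
      hW2J.le (mem_sup_left (commutator_mem_commutator he hw))⟩
    have hdec : ∀ e ∈ Mi.E, ∃ k : ℤ, ∃ a ∈ H, e = y ^ k * a := fun e he => by
      obtain ⟨k, a, ha, rfl⟩ := exists_decomp Mj hyj e
      exact ⟨k, a, ⟨(Subgroup.mul_mem_cancel_left _ (zpow_mem hy k)).1 he, ha⟩, rfl⟩
    have hker : F.subgroupOf H = f.ker := by
      ext h
      refine ⟨fun hh => hπ1 (hh.2 y hy), fun hh => ⟨h.2, fun e he => ?_⟩⟩
      obtain ⟨k, a, ha, rfl⟩ := hdec e he
      rw [← QuotientGroup.eq_one_iff]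
      show π _ = 1
      rw [map_commutatorElement, commutatorElement_eq_one_iff_commute, map_mul, map_zpow]
      refine Commute.mul_left (Commute.zpow_left ?_ k) ?_
      · have h2 : π ⁅y, (h : T)⁆ = 1 := hh
        rwa [map_commutatorElement, commutatorElement_eq_one_iff_commute] at h2
      · rw [← commutatorElement_eq_one_iff_commute, ← map_commutatorElement]
        exact hπ1 (mem_sup_left (commutator_mem_commutator ha h.2))
    have hrange : f.range = W1.map π := by
      refine le_antisymm (by rintro _ ⟨h, rfl⟩; exact mem_map_of_mem π (hW1h h h.2)) ?_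
      rw [Subgroup.map_le_iff_le_comap]
      refine sup_le (Subgroup.commutator_le.2 fun e he h hh => ?_) fun j hj => by
        rw [mem_comap, hπ1 hj]; exact one_mem _
      let U : Subgroup T :=
        { carrier := {a | a ∈ Mi.E ∧ π ⁅a, h⁆ ∈ f.range}
          one_mem' := ⟨one_mem _, by simp⟩
          mul_mem' := fun {a b} ha hb => ⟨mul_mem ha.1 hb.1, by
            rw [Cfsg.Lib.PGroups.mul_left_commutator, map_mul, map_mul, map_mul, map_inv,
              hEW a ha.1 _ (mem_sup_left (commutator_mem_commutator hb.1 hh)), mul_inv_cancel_right]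
            exact mul_mem hb.2 ha.2⟩
          inv_mem' := fun {a} ha => ⟨inv_mem ha.1, by
            rw [show ⁅a⁻¹, h⁆ = a⁻¹ * ⁅a, h⁆⁻¹ * a⁻¹⁻¹ by simp only [commutatorElement_def]; group,
              map_mul, map_mul, map_inv π a⁻¹,
              hEW a⁻¹ (inv_mem ha.1) _ (inv_mem (mem_sup_left (commutator_mem_commutator ha.1 hh))),
              mul_inv_cancel_right, map_inv]
            exact inv_mem ha.2⟩ }
      obtain ⟨k, a, ha, rfl⟩ := hdec e he
      refine (mul_mem (zpow_mem (show y ∈ U from ⟨hy, ⟨⟨h, hh⟩, rfl⟩⟩) k) (show a ∈ U from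
        ⟨P.H_le false ha, ?_⟩)).2
      rw [hπ1 (show ⁅a, h⁆ ∈ J from mem_sup_left (commutator_mem_commutator ha hh))]
      exact one_mem _
    have hcard := f.ker.card_mul_index
    rw [Subgroup.index_ker, hrange, ← hker, Nat.card_congr (subgroupOfEquivOfLe hFH).toEquiv,
      card_lg hT F, card_lg hT H, card_lg (hT.to_quotient J), ← pow_add] at hcard
    have hcard' := Nat.pow_right_injective hp.out.two_le hcard
    have hq : lg p (W1.map π) + lg p J = lg p W1 := lg_map_mk hT J le_sup_right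
    have l4 : lg p W1 ≤ lg p F := lg_mono hW1F
    exact kill F hFi (le_sup_right.trans hW1F) W1 hW1i le_sup_right hW1F hFH (by omega) (by omega) (by omega)
  · have hJ2 : J < W2 := lt_of_le_of_ne le_sup_right (Ne.symm hW2J)
    have h21 : W2 < W1 := lt_of_le_of_ne hW21 fun e =>
      hJW.not_ge (le_of_le_comm_sup hT (e.ge.trans (sup_le_sup_right (Subgroup.commutator_mono le_top le_rfl) J)))
    have l2 := lg_lt hT hJ2
    have l5 := lg_lt hT h21
    -- all layers have order `p`
    exact hxi (Mi.stab_phi hT (n := 4)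
      (fun i => match i with | 0 => Mi.E | 1 => H | 2 => W1 | 3 => W2 | _ => J) rfl (by norm_num) le_rfl
      (fun i hi => match i, hi with
        | 0, _ => Mi.inv_E
        | 1, _ => h0
        | 2, _ => hW1i
        | 3, _ => hW2i
        | _ + 4, _ => hJ0)
      fun i hi e he => match i, hi, he with
        | 0, _, _ => P.comm_mem_H x e
        | 1, _, he => hchain W1 H hW1i h0 hW1H (by omega) e he
        | 2, _, he => hchain W2 W1 hW2i hW1i hW21 (by omega) e he
        | 3, _, he => hchain J W2 hJ0 hW2i le_sup_right (by omega) e he)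

end Duo

end Cfsg.Lib.Fusion.RankThreePair
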