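import Cfsg.Agent.Fusion.RankThreeTwo.Central
import Cfsg.Agent.Fusion.RankThreePair.Bridge
import Cfsg.Agent.Fusion.RankThreePair.Sp4
import Cfsg.Agent.Fusion.RankThreePair.RankTwo
import Cfsg.Agent.Fusion.ExceptionShape

/-!
Two characteristic essential subgroups in sectional rank three.
-/

set_option autoImplicit false
set_option linter.unusedSectionVars false
set_option linter.style.haveILetI false

namespace Cfsg.Lib.Fusion.RankThreePair

open Subgroup Cfsg Cfsg.FusionSystem Cfsg.Lib.Fusion Cfsg.Lib.Fusion.RankThree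
open scoped commutatorElement

universe u

variable {p : ℕ} [hp : Fact p.Prime] {Ω : Type u} [Group Ω] {S : Subgroup Ω}

theorem Shape.of_equiv {T U : Type u} [Group T] [Group U] (h : Shape p T) (e : T ≃* U) : Shape p U := by
  obtain ⟨hc, V, hVn, hVc, hVab, hVp, b, hb, hbp, v, hv, hbv⟩ := h
  refine ⟨(Nat.card_congr e.toEquiv).symm.trans hc, V.map e.toMonoidHom, hVn.map _ e.surjective,
    (Subgroup.card_map_of_injective e.injective).trans hVc, ?_, ?_, e b, ?_, by rw [← map_pow, hbp, map_one],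
    e v, mem_map_of_mem _ hv, fun h => hbv (e.injective (by rwa [map_one, map_commutatorElement, map_commutatorElement]))⟩
  · rintro _ ⟨x, hx, rfl⟩ _ ⟨y, hy, rfl⟩
    exact (hVab x hx y hy).map e.toMonoidHom
  · rintro _ ⟨x, hx, rfl⟩
    rw [← map_pow, hVp x hx, map_one]
  · rintro ⟨w, hw, hwe⟩
    exact hb (e.injective hwe ▸ hw)

/-- Two essential subgroups that all automorphisms of the group fix give models with common automorphisms. -/
theorem exists_duo [Finite S] (hp3 : 3 ≤ p) (hS : IsPGroup p S) (hrS : RankThreeLE p S)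
    {F : FusionSystem S} (hF : F.IsSaturated p) {E : Bool → Subgroup Ω} (hne : E false ≠ E true)
    (hE : ∀ i, F.IsEssential p (E i))
    (hc : ∀ i, ∀ φ ∈ F.autGroup S, ((E i).subgroupOf S).map φ.toMonoidHom = (E i).subgroupOf S) :
    ∃ P : Duo p S, ∀ i, (P.mdl i).E = (E i).subgroupOf S := by
  classical
  have hnor : ∀ i, S ≤ Subgroup.normalizer (E i : Set Ω) := fun i s hs => by
    haveI : Finite (E i) := finite_of_le (hE i).1.1
    refine mem_normalizer_of_maps_finite fun x hx => ?_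
    have hinn : MulAut.conj (⟨s, hs⟩ : S) ∈ F.autGroup S := inn_le_autGroup le_rfl ⟨⟨s, hs⟩, rfl⟩
    exact (hc i _ hinn).le (mem_map_of_mem _ (show (⟨x, (hE i).1.1 hx⟩ : S) ∈ (E i).subgroupOf S from hx))
  choose mdl hmE hmR using fun i => exists_rep hp3 hS hrS hF (hE i) (hnor i)
  refine ⟨{
    mdl := mdl
    B := F.autGroup S
    ne := fun h => hne (by
      rw [hmE, hmE] at h
      rw [← Subgroup.map_subgroupOf_eq_of_le (hE false).1.1, h, Subgroup.map_subgroupOf_eq_of_le (hE true).1.1])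
    inner := ?_
    norm := fun i g hg => (hmR i).norm g hg
    move := ?_ }, hmE⟩
  · intro b hb hk
    have hfn : F.IsFullyNormalized S := ⟨le_rfl, fun R _ => by
      have h : normalizerIn S S = S := le_antisymm inf_le_left (le_inf le_rfl Subgroup.le_normalizer)
      rw [h]
      exact Subgroup.card_le_of_le inf_le_left⟩
    obtain ⟨-, hfa, -⟩ := fullyNormalized_props hS hF hfn
    obtain ⟨R, hR⟩ := hfa.2
    have hnrm : (R : Subgroup (F.autGroup S)).Normal := by
      rw [hR]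
      refine ⟨fun a ha c => mem_subgroupOf.2 ?_⟩
      obtain ⟨g, hg, eg⟩ := mem_autInducedBy.1 (mem_subgroupOf.1 ha)
      refine mem_autInducedBy.2 ⟨((c : MulAut S) ⟨g, hg⟩ : S), SetLike.coe_mem _, fun x => ?_⟩
      have h1 : (a : MulAut S) ((c : MulAut S)⁻¹ x) = ⟨g, hg⟩ * (c : MulAut S)⁻¹ x * (⟨g, hg⟩ : S)⁻¹ :=
        Subtype.ext (eg _)
      show (((c : MulAut S) ((a : MulAut S) ((c : MulAut S)⁻¹ x)) : S) : Ω) = _
      rw [h1, map_mul, map_mul, map_inv, MulAut.apply_inv_self]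
      rfl
    obtain ⟨k, hk⟩ := hk
    obtain ⟨R', hR'⟩ := (IsPGroup.of_card (G := zpowers (⟨b, hb⟩ : F.autGroup S))
      (n := Nat.log p (Nat.card (zpowers (⟨b, hb⟩ : F.autGroup S)))) (by
        obtain ⟨j, -, hj⟩ := (Nat.dvd_prime_pow hp.out).1 (orderOf_dvd_of_pow_eq_one
          (show (⟨b, hb⟩ : F.autGroup S) ^ p ^ k = 1 from Subtype.ext hk))
        rw [Nat.card_zpowers, hj, Nat.log_pow hp.out.one_lt])).exists_le_sylow
    haveI : Subsingleton (Sylow p (F.autGroup S)) :=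
      (Sylow.unique_of_normal R hnrm).instSubsingleton
    have hbR : (⟨b, hb⟩ : F.autGroup S) ∈ (R : Subgroup (F.autGroup S)) := by
      rw [Subsingleton.elim R R']
      exact hR' (mem_zpowers _)
    rw [hR] at hbR
    obtain ⟨g, hg, eg⟩ := mem_autInducedBy.1 (mem_subgroupOf.1 hbR)
    exact ⟨⟨g, hg⟩, fun t => Subtype.ext (eg t)⟩
  · intro b hb i X hX
    have hR' := rep_transport (hmR i) hb
    have hE' : ((mdl i).transport b).E = (mdl i).E := by
      show (mdl i).E.map b.toMonoidHom = (mdl i).E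
      rw [hmE]
      exact hc i b hb
    have hX' : ((mdl i).transport b).Inv (X.map b.toMonoidHom) := ⟨Subgroup.map_mono hX.1, fun g x hx => by
      obtain ⟨w, hw, rfl⟩ := hx
      show ((mdl i).transport b).cj g (b w) ∈ _
      rw [(mdl i).transport_cj b g (hX.1 hw)]
      exact mem_map_of_mem _ (hX.2 g w hw)⟩
    have hle : X.map b.toMonoidHom ≤ (mdl i).E := hE' ▸ hX'.1
    rw [(hmR i).inv_iff hle]
    have h := (hR'.inv_iff (X := X.map b.toMonoidHom) hX'.1).1 hX'
    rw [hE'] at h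
    exact h

/-- The two essential subgroups that all automorphisms fix. -/
theorem two_characteristic [Finite S] (hp2 : p ≠ 2) (hS : IsPGroup p S) (hrS : RankThreeLE p S)
    (hbig : Nat.card S = p ^ 3 → ∀ x y : S, Commute x y) (hS1 : Nontrivial S)
    {F : FusionSystem S} (hF : F.IsSaturated p) (hO : F.core = ⊥) {E : Bool → Subgroup Ω}
    (hne : E false ≠ E true) (hE : ∀ i, F.IsEssential p (E i))
    (hc : ∀ i, ∀ φ ∈ F.autGroup S, ((E i).subgroupOf S).map φ.toMonoidHom = (E i).subgroupOf S) :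
    Shape p S ∧ ∃ i, IsExtraspecial p (E i) ∧ Nat.card (E i) = p ^ 3 ∧ (∀ x ∈ E i, x ^ p = 1) ∧
      IsElementaryAbelian p (E (!i)) ∧ Nat.card (E (!i)) = p ^ 3 := by
  have hp3 : 3 ≤ p := by have := hp.out.two_le; omega
  obtain ⟨P, hPE⟩ := exists_duo hp3 hS hrS hF hne hE hc
  obtain ⟨D, hDc, hDm⟩ := P.exists_core
  have hD : P.Core D := ⟨hDc, hDm⟩
  haveI := hDc.normal P
  have hF' := P.facts hD hS hp2 hrS
  by_cases hbot : D = ⊥
  · subst hbot
    rcases hF'.cases with h | ⟨i, h⟩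
    · -- order `p ^ 3`
      exfalso
      have hT3 : Nat.card S = p ^ 3 := by
        rw [← Subgroup.card_top (G := S), card_lg hS, P.lg_top hS false, P.lg_E hS, h.1, lg_bot]
      have hle : P.H ≤ ⊥ := hF'.H_le.trans (sup_le (Subgroup.commutator_le.2 fun x _ y _ =>
        mem_bot.2 (commutatorElement_eq_one_iff_commute.2 (hbig hT3 x y))) le_rfl)
      have := lg_mono (p := p) hle
      rw [h.1, lg_bot] at this
      omega
    let e : S ⧸ (⊥ : Subgroup S) ≃* S := QuotientGroup.quotientBot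
    have hEi : ∀ j, ∀ x ∈ E j, ∃ hx : x ∈ S, (⟨x, hx⟩ : S) ∈ (P.mdl j).E := fun j x hx =>
      ⟨(hE j).1.1 hx, by rw [hPE]; exact hx⟩
    have hcardE : ∀ j, Nat.card (E j) = p ^ 3 := fun j => by
      rw [← Nat.card_congr (Subgroup.subgroupOfEquivOfLe (hE j).1.1).toEquiv, ← hPE, card_lg hS,
        P.lg_E hS, h.lg_H, lg_bot]
    refine ⟨h.shape.of_equiv e, i, ?_, hcardE i, fun x hx => ?_, ?_, hcardE _⟩
    · haveI : Finite (E i) := finite_of_le (hE i).1.1
      obtain ⟨-, -, _, ⟨x, hx, rfl⟩, _, ⟨y, hy, rfl⟩, hxy⟩ := h.pearl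
      rw [hPE] at hx hy
      exact isExtraspecial_of_cube (hcardE i) (a := ⟨(x : Ω), hx⟩) (b := ⟨(y : Ω), hy⟩) fun h' =>
        hxy (Commute.map (show Commute x y from Subtype.ext (congrArg Subtype.val h' :)) (QuotientGroup.mk' ⊥))
    · obtain ⟨hxS, hxE⟩ := hEi i x hx
      have h1 := h.pearl.2.1 _ (mem_map_of_mem (QuotientGroup.mk' ⊥) hxE)
      rw [← map_pow] at h1
      exact congrArg Subtype.val (mem_bot.1 ((QuotientGroup.eq_one_iff _).1 h1))
    · refine ⟨⟨⟨fun x y => Subtype.ext ?_⟩⟩, fun x hx => ?_⟩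
      · obtain ⟨hxS, hxE⟩ := hEi _ x x.2
        obtain ⟨hyS, hyE⟩ := hEi _ y y.2
        have h1 : (⟨x, hxS⟩ : S) * ⟨y, hyS⟩ = ⟨y, hyS⟩ * ⟨x, hxS⟩ :=
          commutatorElement_eq_one_iff_mul_comm.1 (mem_bot.1 (h.comm_mem _ hxE _ hyE))
        exact congrArg (fun z : S => (z : Ω)) h1
      · obtain ⟨hxS, hxE⟩ := hEi _ x hx
        exact congrArg Subtype.val (mem_bot.1 (h.pow_mem _ hxE))
  -- a nontrivial core forces class two, and then every essential subgroup is normal
  exfalso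
  have hcen := P.commutator_le_center hD hS hp2 hrS hbot
  have hall : ∀ Q, F.IsEssential p Q → S ≤ Subgroup.normalizer (Q : Set Ω) := fun Q hQ s hs => by
    haveI : Finite Q := finite_of_le hQ.1.1
    refine mem_normalizer_of_maps_finite fun x hx => ?_
    have hz : ((⁅(⟨s, hs⟩ : S), ⟨x, hQ.1.1 hx⟩⁆ : S) : Ω) ∈ Q :=
      hQ.1.2 Q (isConj_refl hQ.1.1) ⟨SetLike.coe_mem _, mem_centralizer_iff.2 fun q hq =>
        congrArg Subtype.val (mem_center_iff.1 (hcen ⟨s, hs⟩ ⟨x, hQ.1.1 hx⟩) ⟨q, hQ.1.1 hq⟩)⟩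
    have := mul_mem hz hx
    simpa [commutatorElement_def] using this
  obtain ⟨⟨-, V, -, -, -, -, b, -, -, v, -, hbv⟩, -⟩ := shape_of_all_normal hp2 hS hrS hbig hS1 hF hO hall
  exact hbv (commutatorElement_eq_one_iff_mul_comm.2 (mem_center_iff.1 (hcen b v) b))

end Cfsg.Lib.Fusion.RankThreePair
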