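import Cfsg.Agent.Fusion.RankThreeTwo.Com
import Cfsg.Agent.Fusion.RankThreePair.Kill

/-!
The model of a quotient by an invariant subgroup that is small modulo the Frattini subgroup.
-/

set_option autoImplicit false
set_option linter.unusedSectionVars false
set_option linter.style.haveILetI false

namespace Cfsg.Lib.Fusion.RankThreePair

open Subgroup Cfsg.Lib.Fusion.RankThree
open scoped commutatorElement

universe u

variable {p : ℕ} [hp : Fact p.Prime] {T : Type u} [Group T] [Finite T]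

/-- A model of the quotient by `Y` that lifts normalising elements. -/
structure Quot (M : Mdl p T) (Y : Subgroup T) [Y.Normal] where
  /-- The model of the quotient. -/
  q : Mdl p (T ⧸ Y)
  /-- The map of the models. -/
  π : M.G →* q.G
  surj : Function.Surjective π
  comm : ∀ t, q.ι (QuotientGroup.mk' Y t) = π (M.ι t)
  le_E : Y ≤ M.E
  E_eq : q.E = M.E.map (QuotientGroup.mk' Y)
  fix : ∀ K : Subgroup M.G, K.Normal → M.ι.range ≤ K → ∀ g ∈ K,
    (∀ t, ∃ t', q.ι t' = π g * q.ι t * (π g)⁻¹) →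
      ∃ g' ∈ K, π g' = π g ∧ ∀ t, ∃ t', M.ι t' = g' * M.ι t * g'⁻¹

namespace Quot

variable {M : Mdl p T} {Y : Subgroup T} [Y.Normal] (Q : Quot M Y)

theorem mem_E {e : T} (he : e ∈ M.E) : QuotientGroup.mk' Y e ∈ Q.q.E :=
  Q.E_eq ▸ mem_map_of_mem _ he

theorem comap_E : Q.q.E.comap (QuotientGroup.mk' Y) = M.E := by
  rw [Q.E_eq, Subgroup.comap_map_eq, QuotientGroup.ker_mk', sup_eq_left]
  exact Q.le_E

theorem cj {g : M.G} {e : T} (he : e ∈ M.E) :
    Q.q.cj (Q.π g) (QuotientGroup.mk' Y e) = QuotientGroup.mk' Y (M.cj g e) :=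
  Q.q.cj_eq (Q.mem_E he) (by rw [Q.comm, Q.comm, M.ι_cj he, map_mul, map_mul, map_inv])

theorem inv_map {X : Subgroup T} (hX : M.Inv X) : Q.q.Inv (X.map (QuotientGroup.mk' Y)) :=
  ⟨Q.E_eq ▸ Subgroup.map_mono hX.1, fun gb x hx => by
    obtain ⟨w, hw, rfl⟩ := hx
    obtain ⟨g, rfl⟩ := Q.surj gb
    rw [Q.cj (hX.1 hw)]
    exact mem_map_of_mem _ (hX.2 g w hw)⟩

theorem inv_comap {X : Subgroup (T ⧸ Y)} (hX : Q.q.Inv X) : M.Inv (X.comap (QuotientGroup.mk' Y)) :=
  ⟨(Subgroup.comap_mono hX.1).trans Q.comap_E.le, fun g x hx => by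
    have hxE : x ∈ M.E := Q.comap_E.le (hX.1 hx)
    rw [mem_comap, ← Q.cj hxE]
    exact hX.2 _ _ hx⟩

theorem L_eq : Q.q.L = M.L.map Q.π := by
  rw [Mdl.L, Mdl.L, Subgroup.map_normalClosure _ Q.π Q.surj, ← Subgroup.coe_map]
  congr 2
  ext y
  constructor
  · rintro ⟨tb, rfl⟩
    obtain ⟨t, rfl⟩ := QuotientGroup.mk'_surjective Y tb
    exact ⟨M.ι t, ⟨t, rfl⟩, (Q.comm t).symm⟩
  · rintro ⟨_, ⟨t, rfl⟩, rfl⟩
    exact ⟨_, Q.comm t⟩

end Quot

theorem not_dvd_relIndex {G : Type u} [Group G] [Finite G] (R K : Subgroup G) [K.Normal]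
    (h : ¬ p ∣ R.index) : ¬ p ∣ R.relIndex K := by
  have h1 := Subgroup.relIndex_mul_relIndex ⊥ (R ⊓ K) K bot_le inf_le_right
  rw [Subgroup.relIndex_bot_left, Subgroup.relIndex_bot_left, Subgroup.inf_relIndex_right] at h1
  have h2 := Subgroup.relIndex_mul_relIndex ⊥ R (K ⊔ R) bot_le le_sup_right
  rw [Subgroup.relIndex_bot_left, Subgroup.relIndex_bot_left] at h2
  have h3 := card_sup K R
  rw [inf_comm, ← h1, ← h2] at h3
  have e : R.relIndex (K ⊔ R) = R.relIndex K :=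
    Nat.eq_of_mul_eq_mul_left (Nat.mul_pos (Nat.card_pos (α := R)) (Nat.card_pos (α := (R ⊓ K : Subgroup G))))
      (by linarith)
  rw [← e]
  exact fun hd => h (hd.trans (Dvd.intro _ (Subgroup.relIndex_mul_index (le_sup_right : R ≤ K ⊔ R))))

theorem Mdl.nonempty_quot (M : Mdl p T) (hT : IsPGroup p T) (Y : Subgroup T) [Y.Normal] (hY : M.Inv Y)
    (hr : RankThreeLE p T)
    (hgood : lg p (phi p M.E ⊔ Y) ≤ lg p (phi p M.E) + 1) : Nonempty (Quot M Y) := by
  classical
  haveI := M.normal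
  haveI := M.E_normal
  set X := phi p M.E ⊔ Y with hX
  have hYX : Y ≤ X := le_sup_right
  have hXi : M.Inv X := M.inv_sup (M.inv_phi M.inv_E) hY
  haveI := M.inv_normal hXi
  haveI := M.inv_map_normal hY
  let K : Subgroup M.G :=
    { carrier := {g | ∀ e ∈ M.E, M.cj g e * e⁻¹ ∈ Y}
      one_mem' := fun e he => by rw [M.cj_one_left he, mul_inv_cancel]; exact one_mem _
      mul_mem' := fun {a b} ha hb e he => by
        have h1 := mul_mem (ha _ (M.cj_mem (g := b) he)) (hb e he)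
        rwa [← M.cj_mul_left he, ← mul_assoc, inv_mul_cancel_right] at h1
      inv_mem' := fun {a} ha e he => by
        have h1 := inv_mem (ha _ (M.cj_mem (g := a⁻¹) he))
        rwa [M.cj_cj_inv he, mul_inv_rev, inv_inv] at h1 }
  haveI hKn : K.Normal := ⟨fun k hk g e he => by
    have he' : M.cj g⁻¹ e ∈ M.E := M.cj_mem he
    have h1 := hY.2 g _ (hk _ he')
    rwa [M.cj_mul (M.cj_mem (M.cj_mem he)) (inv_mem (M.cj_mem he)), M.cj_inv (M.cj_mem he),
      M.cj_cj_inv he, ← M.cj_mul_left (M.cj_mem he), ← M.cj_mul_left he] at h1⟩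
  have hlast : ∀ x : T, ∀ e ∈ X, ⁅x, e⁆ ∈ phi p M.E := fun x e he => by
    haveI := M.inv_normal (M.inv_phi (p := p) M.inv_E)
    exact comm_le_of_lg hT le_sup_left hgood x he
  have hKE : ∀ t, M.ι t ∈ K → t ∈ M.E := fun t ht =>
    M.stab_phi hT (n := 3) (fun i => match i with | 0 => M.E | 1 => M.E | 2 => X | _ => phi p M.E) rfl
      (by norm_num) le_rfl
      (fun i hi => match i, hi with
        | 0, _ => M.inv_E
        | 1, _ => M.inv_E
        | 2, _ => hXi
        | _ + 3, _ => M.inv_phi M.inv_E)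
      fun i hi e he => match i, hi, he with
        | 0, _, _ => M.commutator_mem_E t e
        | 1, _, he => hYX (by have := ht e he; rwa [M.cj_range he] at this)
        | 2, _, he => hlast t e he
  have hYK : Y.map M.ι ≤ K := by
    rintro _ ⟨y, hy, rfl⟩ e he
    rw [M.cj_range he, mul_assoc y e, mul_assoc y]
    exact mul_mem hy (Subgroup.Normal.conj_mem ‹_› _ (inv_mem hy) e)
  -- the normal complement
  set Y' := (Y.map M.ι).subgroupOf K
  set ρ := QuotientGroup.mk' Y' with hρdef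
  have hρ1 : ∀ k : K, ρ k = 1 ↔ (k : M.G) ∈ Y.map M.ι := fun k => QuotientGroup.eq_one_iff k
  set P0 := (M.ι.range.subgroupOf K).map ρ with hP0
  have hρs : Function.Surjective ρ := QuotientGroup.mk'_surjective _
  have hTr := M.range_isPGroup hT
  have hP0p : IsPGroup p P0 := (hTr.comap_of_injective K.subtype K.subtype_injective).map ρ
  have hP0i : ¬ p ∣ P0.index := fun hd =>
    not_dvd_relIndex M.ι.range K M.sylow (hd.trans ((M.ι.range.subgroupOf K).index_map_dvd hρs))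
  have hP0c : P0 ≤ center (K ⧸ Y') := by
    rintro _ ⟨⟨_, hzK⟩, ⟨t, rfl⟩, rfl⟩
    refine mem_center_iff.2 fun kb => ?_
    obtain ⟨k, rfl⟩ := hρs kb
    have htE := hKE t hzK
    rw [← commutatorElement_eq_one_iff_mul_comm, ← map_commutatorElement, hρ1]
    refine ⟨M.cj (k : M.G) t * t⁻¹, k.2 t htE, ?_⟩
    rw [map_mul, map_inv, M.ι_cj htE]
    rfl
  set P := hP0p.toSylow hP0i
  have hPn : Subgroup.normalizer ((P : Subgroup (K ⧸ Y')) : Set (K ⧸ Y')) ≤
      centralizer ((P : Subgroup (K ⧸ Y')) : Set (K ⧸ Y')) :=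
    fun g _ => mem_centralizer_iff.2 fun z hz => (mem_center_iff.1 (hP0c hz) g).symm
  set N := (MonoidHom.transferSylow P hPn).ker
  have hNc : N.IsComplement' (P : Subgroup (K ⧸ Y')) := MonoidHom.ker_transferSylow_isComplement' P hPn
  obtain ⟨hcN, kN, hiN⟩ := Cfsg.Lib.Transfer.complement_props hNc
  set N0 := (N.comap ρ).map K.subtype with hN0
  have hN0K : N0 ≤ K := Subgroup.map_subtype_le _
  haveI hN0n : N0.Normal := by
    refine ⟨?_⟩
    rintro _ ⟨k, hk, rfl⟩ g
    refine ⟨⟨g * k * g⁻¹, hKn.conj_mem k k.2 g⟩, ?_, rfl⟩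
    rw [SetLike.mem_coe, mem_comap, Cfsg.Lib.Transfer.mem_iff_coprime_orderOf hcN hiN]
    refine Nat.Coprime.coprime_dvd_left ?_ ((Cfsg.Lib.Transfer.mem_iff_coprime_orderOf hcN hiN _).1 hk)
    refine orderOf_dvd_of_pow_eq_one ?_
    rw [← map_pow, hρ1, SubgroupClass.coe_pow]
    show (g * (k : M.G) * g⁻¹) ^ orderOf (ρ k) ∈ _
    rw [conj_pow]
    refine (inferInstance : (Y.map M.ι).Normal).conj_mem _ ?_ g
    rw [← SubgroupClass.coe_pow, ← hρ1, map_pow, pow_orderOf_eq_one]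
  have hN0r : ∀ t, M.ι t ∈ N0 → t ∈ Y := fun t ht => by
    obtain ⟨k, hk, hkt⟩ := ht
    obtain ⟨j, hj⟩ := hT t
    have hcop := (Cfsg.Lib.Transfer.mem_iff_coprime_orderOf hcN hiN _).1 hk
    have h1 : ρ k ^ p ^ j = 1 := by
      rw [← map_pow, show k ^ p ^ j = 1 from Subtype.ext (by
        rw [SubgroupClass.coe_pow, show (k : M.G) = M.ι t from hkt, ← map_pow, hj, map_one]; rfl), map_one]
    have h2 : ρ k = 1 := orderOf_eq_one_iff.1 (Nat.eq_one_of_dvd_coprimes (hcop.pow_right j) dvd_rfl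
      (orderOf_dvd_of_pow_eq_one h1))
    obtain ⟨y, hy, hyt⟩ := (hρ1 k).1 h2
    exact M.inj (hyt.trans hkt) ▸ hy
  have hYN : Y.map M.ι ≤ N0 := fun z hz => ⟨⟨z, hYK hz⟩, by
    rw [SetLike.mem_coe, mem_comap, (hρ1 ⟨z, hYK hz⟩).2 hz]; exact one_mem _, rfl⟩
  set π := QuotientGroup.mk' N0 with hπ
  have hπs : Function.Surjective π := QuotientGroup.mk'_surjective _
  have hKle : K ≤ N0 ⊔ M.E.map M.ι := by
    intro k hk
    haveI : N.Normal := MonoidHom.normal_ker _
    obtain ⟨n, hn, z, hz, hnz⟩ := mem_sup_of_normal_left.1 (hNc.sup_eq_top.ge (mem_top (ρ ⟨k, hk⟩)))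
    obtain ⟨⟨_, hzK⟩, ⟨t, rfl⟩, rfl⟩ := (show z ∈ P0 from hz)
    have h1 : k * (M.ι t)⁻¹ ∈ N0 := ⟨⟨k, hk⟩ * ⟨M.ι t, hzK⟩⁻¹, by
      rw [SetLike.mem_coe, mem_comap, map_mul, map_inv, ← hnz, mul_inv_cancel_right]; exact hn, rfl⟩
    have := Subgroup.mul_mem_sup h1 (mem_map_of_mem M.ι (hKE t hzK))
    rwa [inv_mul_cancel_right] at this
  have hYker : Y ≤ (π.comp M.ι).ker := fun y hy => (QuotientGroup.eq_one_iff _).2 (hYN (mem_map_of_mem _ hy))
  set ι' := QuotientGroup.lift Y (π.comp M.ι) hYker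
  have hι' : ∀ t, ι' (QuotientGroup.mk' Y t) = π (M.ι t) := fun t => rfl
  have hιc : ι'.comp (QuotientGroup.mk' Y) = π.comp M.ι := rfl
  have hrange : ι'.range = M.ι.range.map π := by
    ext z
    constructor
    · rintro ⟨tb, rfl⟩
      obtain ⟨t, rfl⟩ := QuotientGroup.mk'_surjective Y tb
      exact ⟨M.ι t, ⟨t, rfl⟩, rfl⟩
    · rintro ⟨_, ⟨t, rfl⟩, rfl⟩
      exact ⟨_, hι' t⟩
  refine ⟨{
    q :=
      { G := M.G ⧸ N0
        ι := ι'
        inj := (injective_iff_map_eq_one ι').2 fun tb htb => by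
          obtain ⟨t, rfl⟩ := QuotientGroup.mk'_surjective Y tb
          exact (QuotientGroup.eq_one_iff t).2 (hN0r t ((QuotientGroup.eq_one_iff _).1 htb))
        E := M.E.map (QuotientGroup.mk' Y)
        index_eq := by
          rw [← Subgroup.index_comap_of_surjective _ (QuotientGroup.mk'_surjective Y),
            Subgroup.comap_map_eq, QuotientGroup.ker_mk', sup_eq_left.2 hY.1, M.index_eq]
        normal := by
          rw [Subgroup.map_map, hιc, ← Subgroup.map_map]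
          exact Subgroup.Normal.map M.normal π hπs
        cent := by
          intro gb hgb
          obtain ⟨g, rfl⟩ := hπs gb
          have hgK : g ∈ K := fun e he => hN0r _ ((QuotientGroup.eq_one_iff _).1 (by
            show π (M.ι (M.cj g e * e⁻¹)) = 1
            rw [map_mul, map_inv, M.ι_cj he]
            have h1 := mem_centralizer_iff.1 hgb _ ⟨_, mem_map_of_mem _ he, rfl⟩
            rw [hι' e] at h1
            rw [map_mul, map_mul, map_mul, map_inv, map_inv, ← h1]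
            group))
          obtain ⟨n, hn, _, ⟨e, he, rfl⟩, rfl⟩ := mem_sup_of_normal_left.1 (hKle hgK)
          refine ⟨_, mem_map_of_mem _ he, ?_⟩
          rw [hι', map_mul π, show π n = 1 from (QuotientGroup.eq_one_iff n).2 hn, one_mul]
        sylow := fun hd => M.sylow (by
          rw [hrange] at hd
          exact hd.trans (M.ι.range.index_map_dvd hπs))
        notNormal := ?_ }
    π := π
    surj := hπs
    comm := hι'
    le_E := hY.1
    E_eq := rfl
    fix := ?_ }⟩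
  · intro hn
    rw [hrange] at hn
    have hstep : ∀ A : Subgroup T, M.Inv A → M.Inv (⁅(⊤ : Subgroup T), A⁆ ⊔ X) := fun A hA => by
      set B := ⁅(⊤ : Subgroup T), A⁆ ⊔ X
      have hBE : B ≤ M.E := sup_le (Subgroup.commutator_le.2 fun t _ a _ => M.commutator_mem_E t a) hXi.1
      refine ⟨hBE, fun g => ?_⟩
      let U : Subgroup T :=
        { carrier := {z | z ∈ M.E ∧ M.cj g z ∈ B}
          one_mem' := ⟨one_mem _, by rw [M.cj_one]; exact one_mem _⟩
          mul_mem' := fun {a b} ha hb => ⟨mul_mem ha.1 hb.1, by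
            rw [M.cj_mul ha.1 hb.1]; exact mul_mem ha.2 hb.2⟩
          inv_mem' := fun {a} ha => ⟨inv_mem ha.1, by rw [M.cj_inv ha.1]; exact inv_mem ha.2⟩ }
      suffices h : B ≤ U from fun z hz => (h hz).2
      refine sup_le (Subgroup.commutator_le.2 fun t _ a ha => ?_) fun z hz =>
        ⟨hXi.1 hz, mem_sup_right (hXi.2 g z hz)⟩
      refine ⟨M.commutator_mem_E t a, ?_⟩
      obtain ⟨_, ⟨t', rfl⟩, ht'⟩ := hn.conj_mem _ (mem_map_of_mem π (show M.ι t ∈ M.ι.range from ⟨t, rfl⟩)) (π g)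
      have hnN : (M.ι t')⁻¹ * (g * M.ι t * g⁻¹) ∈ N0 := by
        rw [← map_inv, ← map_mul, ← map_mul] at ht'
        exact QuotientGroup.eq.1 ht'
      obtain ⟨n, hnN, hn'⟩ : ∃ n ∈ N0, M.ι t' * n = g * M.ι t * g⁻¹ := ⟨_, hnN, mul_inv_cancel_left _ _⟩
      have haE := hA.1 ha
      have ha'E : M.cj g a ∈ M.E := M.cj_mem haE
      obtain ⟨y, hy, hyv⟩ : ∃ y ∈ Y, M.cj n (M.cj g a) = y * M.cj g a :=
        ⟨_, hN0K hnN _ ha'E, (inv_mul_cancel_right _ _).symm⟩
      have e : M.cj g ⁅t, a⁆ = (t' * y * t'⁻¹) * ⁅t', M.cj g a⁆ := by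
        have h1 : M.cj g (t * a * t⁻¹) = t' * (y * M.cj g a) * t'⁻¹ := by
          rw [← M.cj_range (t := t) haE, ← M.cj_mul_left haE,
            show g * M.ι t = M.ι t' * n * g by rw [hn']; group, M.cj_mul_left haE,
            M.cj_mul_left ha'E, hyv, M.cj_range (mul_mem (hY.1 hy) ha'E)]
        rw [commutatorElement_def, M.cj_mul (M.E_normal.conj_mem a haE t) (inv_mem haE), h1, M.cj_inv haE]
        simp only [commutatorElement_def]
        group
      rw [e]
      exact mul_mem (mem_sup_right (hYX (Subgroup.Normal.conj_mem ‹_› y hy t')))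
        (mem_sup_left (commutator_mem_commutator (mem_top _) (hA.2 g a ha)))
    set A1 := ⁅(⊤ : Subgroup T), M.E⁆ ⊔ X with hA1
    set A2 := ⁅(⊤ : Subgroup T), A1⁆ ⊔ X with hA2
    have hA1i := hstep _ M.inv_E
    have hA2i := hstep _ hA1i
    have hA2l : lg p A2 ≤ lg p X + 1 := by
      by_cases h : A2 = X
      · rw [h]; omega
      have hXE : X ≤ M.E := hXi.1
      have h21 : A2 ≤ A1 := sup_le_sup_right (Subgroup.commutator_mono le_rfl hA1i.1) X
      have n1 : A2 ≠ A1 := fun e => h (le_antisymm (e.le.trans (le_of_le_comm_sup hT e.ge)) le_sup_right)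
      have n2 : A1 ≠ M.E := fun e => h (le_antisymm (hA2i.1.trans (le_of_le_comm_sup hT e.ge)) le_sup_right)
      have l1 := lg_lt hT (lt_of_le_of_ne le_sup_right (Ne.symm h) : X < A2)
      have l2 : lg p A2 + 1 ≤ lg p A1 := lg_lt hT (lt_of_le_of_ne h21 n1)
      have l3 : lg p A1 + 1 ≤ lg p M.E := lg_lt hT (lt_of_le_of_ne hA1i.1 n2)
      have l4 : lg p M.E ≤ 3 + lg p X := lg_rank hT hr hXE
        (fun _ ha _ hb => mem_sup_left (mem_sup_left (commutator_mem_commutator ha hb)))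
        fun _ ha => mem_sup_left (mem_sup_right (pow_mem_pw ha))
      omega
    obtain ⟨x, hx⟩ := M.exists_not_mem
    haveI := M.inv_normal hA2i
    exact hx (M.stab_phi hT (n := 5)
      (fun i => match i with | 0 => M.E | 1 => M.E | 2 => A1 | 3 => A2 | 4 => X | _ => phi p M.E)
      rfl (by norm_num) le_rfl
      (fun i hi => match i, hi with
        | 0, _ => M.inv_E
        | 1, _ => M.inv_E
        | 2, _ => hA1i
        | 3, _ => hA2i
        | 4, _ => hXi
        | _ + 5, _ => M.inv_phi M.inv_E)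
      fun i hi e he => match i, hi, he with
        | 0, _, _ => M.commutator_mem_E x e
        | 1, _, he => mem_sup_left (commutator_mem_commutator (mem_top _) he)
        | 2, _, he => mem_sup_left (commutator_mem_commutator (mem_top _) he)
        | 3, _, he => comm_le_of_lg hT le_sup_right hA2l x he
        | 4, _, he => hlast x e he)
  · intro K' hK' hrK g hg hnorm
    set W := (N0 ⊓ K') ⊔ M.ι.range
    haveI : (N0 ⊓ K').Normal := Subgroup.normal_inf_normal N0 K'
    set R0 : Sylow p M.G := hTr.toSylow M.sylow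
    have hR0c : (R0 : Subgroup M.G) = M.ι.range := rfl
    have hmem : ∀ t, g * M.ι t * g⁻¹ ∈ W := fun t => by
      obtain ⟨tb, htb⟩ := hnorm (QuotientGroup.mk' Y t)
      obtain ⟨t', rfl⟩ := QuotientGroup.mk'_surjective Y tb
      rw [hι', hι', ← map_inv, ← map_mul, ← map_mul] at htb
      have h1 : (g * M.ι t * g⁻¹) * (M.ι t')⁻¹ ∈ N0 ⊓ K' := ⟨by
        refine (QuotientGroup.eq_one_iff _).1 ?_
        show π _ = 1
        rw [map_mul, map_inv, ← htb, mul_inv_cancel], K'.mul_mem (hK'.conj_mem _ (hrK ⟨t, rfl⟩) g)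
        (inv_mem (hrK ⟨t', rfl⟩))⟩
      have := Subgroup.mul_mem_sup h1 (show M.ι t' ∈ M.ι.range from ⟨t', rfl⟩)
      rwa [inv_mul_cancel_right] at this
    have hgW : (g • R0 : Sylow p M.G) ≤ W := fun y hy => by
      rw [Sylow.smul_def, Sylow.pointwise_smul_def, Subgroup.mem_smul_pointwise_iff_exists] at hy
      obtain ⟨_, ⟨t, rfl⟩, rfl⟩ := hy
      exact hmem t
    have hRW : (R0 : Subgroup M.G) ≤ W := (hR0c.le).trans le_sup_right
    obtain ⟨w, hw⟩ := MulAction.exists_smul_eq W (R0.subtype hRW) ((g • R0).subtype hgW)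
    obtain ⟨k, hk, r, hr, hkr⟩ := mem_sup_of_normal_left.1 w.2
    refine ⟨k⁻¹ * g, mul_mem (inv_mem hk.2) hg, ?_, fun t => ?_⟩
    · rw [map_mul π, map_inv π, show π k = 1 from (QuotientGroup.eq_one_iff k).2 hk.1, inv_one, one_mul]
    have h1 : (⟨g * M.ι t * g⁻¹, hmem t⟩ : W) ∈ ((g • R0).subtype hgW : Subgroup W) := by
      rw [Sylow.coe_subtype, mem_subgroupOf, Sylow.smul_def, Sylow.pointwise_smul_def,
        Subgroup.mem_smul_pointwise_iff_exists]
      exact ⟨M.ι t, ⟨t, rfl⟩, rfl⟩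
    rw [← hw, Sylow.coe_subgroup_smul, Subgroup.mem_smul_pointwise_iff_exists] at h1
    obtain ⟨y, hy, hye⟩ := h1
    rw [Sylow.coe_subtype, mem_subgroupOf, hR0c] at hy
    have h2 : (w : M.G) * (y : M.G) * (w : M.G)⁻¹ = g * M.ι t * g⁻¹ := congrArg Subtype.val hye
    obtain ⟨t', ht'⟩ := (M.ι.range.mul_mem (M.ι.range.mul_mem hr hy) (inv_mem hr) :
      r * (y : M.G) * r⁻¹ ∈ M.ι.range)
    refine ⟨t', ?_⟩
    rw [ht', show k⁻¹ * g * M.ι t * (k⁻¹ * g)⁻¹ = k⁻¹ * (g * M.ι t * g⁻¹) * k by group, ← h2, ← hkr]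
    group

end Cfsg.Lib.Fusion.RankThreePair
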