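import Cfsg.Agent.Fusion.RankThreePair.ConjTools
import Cfsg.Agent.Fusion.RankThreePair.Tools

/-!
Coprime elements of a model, and invariant series that reach into the Frattini subgroup.
-/

set_option autoImplicit false
set_option linter.unusedSectionVars false
set_option linter.style.haveILetI false

namespace Cfsg.Lib.Fusion.RankThreePair

open Subgroup Cfsg.Lib.Fusion.RankThree
open scoped commutatorElement

universe u

variable {p : ℕ} [hp : Fact p.Prime] {T : Type u} [Group T] [Finite T]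

/-- A normal chief factor of order `p` is central. -/
theorem comm_le_of_small (hT : IsPGroup p T) {N M : Subgroup T} [N.Normal] [M.Normal]
    (hc : Nat.card M ≤ p * Nat.card N) (hNM : N ≤ M) (t : T) {m : T} (hm : m ∈ M) : ⁅t, m⁆ ∈ N := by
  by_contra hn
  set π := QuotientGroup.mk' N
  haveI : (M.map π).Normal := Subgroup.Normal.map ‹_› π (QuotientGroup.mk'_surjective N)
  have hcard : Nat.card (M.map π) = p := by
    have h1 : Nat.card (M.map π) * Nat.card N = Nat.card M := by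
      rw [← (N.subgroupOf M).card_mul_index, Nat.card_congr (subgroupOfEquivOfLe hNM).toEquiv,
        ← Subgroup.relIndex, mul_comm]
      congr 1
      rw [← Subgroup.relIndex_ker, QuotientGroup.ker_mk']
    have h2 : Nat.card (M.map π) ≤ p :=
      Nat.le_of_mul_le_mul_right (h1.trans_le hc) Nat.card_pos
    have h3 : Nat.card (M.map π) ≠ 1 := fun h => hn ((QuotientGroup.eq_one_iff _).1 (by
      have : π m = 1 := mem_bot.1 (Subgroup.card_eq_one.1 h ▸ mem_map_of_mem π hm)
      show π ⁅t, m⁆ = 1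
      rw [map_commutatorElement, this, commutatorElement_one_right]))
    obtain ⟨k, hk⟩ := IsPGroup.iff_card.1 ((hT.to_quotient N).to_subgroup (M.map π))
    rw [hk] at h2 h3 ⊢
    have hk1 : k ≤ 1 := (Nat.pow_le_pow_iff_right hp.out.one_lt).1 (h2.trans (pow_one p).ge)
    have hk0 : k ≠ 0 := fun e => h3 (by rw [e, pow_zero])
    rw [show k = 1 by omega, pow_one]
  refine hn ((QuotientGroup.eq_one_iff _).1 ?_)
  show π ⁅t, m⁆ = 1
  rw [map_commutatorElement, commutatorElement_eq_one_iff_mul_comm]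
  exact mem_center_iff.1 (Cfsg.Lib.PGroups.le_center_of_card_eq_prime (hT.to_quotient N) hcard
    (mem_map_of_mem π hm)) (π t)

theorem phi_le_frattini (hT : IsPGroup p T) (X : Subgroup T) : phi p X ≤ (frattini X).map X.subtype := by
  have hX := hT.to_subgroup X
  refine sup_le (Subgroup.commutator_le.2 fun a ha b hb => ?_) (pw_le_iff.2 fun a ha => ?_)
  · exact ⟨⁅⟨a, ha⟩, ⟨b, hb⟩⁆, Cfsg.Lib.PGroups.commutator_le_frattini hX
      (commutator_mem_commutator (mem_top _) (mem_top _)), rfl⟩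
  · exact ⟨⟨a, ha⟩ ^ p, Cfsg.Lib.PGroups.pow_mem_frattini hX _, rfl⟩

omit [Finite T] in
theorem eq_one_of_coprime_pow {A : Type*} [Group A] (hA : IsPGroup p A) {v : A} {m : ℕ}
    (hm : m.Coprime p) (h : v ^ m = 1) : v = 1 := by
  obtain ⟨j, hj⟩ := hA v
  exact orderOf_eq_one_iff.mp (Nat.eq_one_of_dvd_coprimes (hm.pow_right j)
    (orderOf_dvd_of_pow_eq_one h) (orderOf_dvd_of_pow_eq_one hj))

namespace Mdl

variable (M : Mdl p T)

theorem cj_pow_left (g : M.G) (m : ℕ) {x : T} (hx : x ∈ M.E) :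
    M.cj (g ^ (m + 1)) x = M.cj g (M.cj (g ^ m) x) := by
  rw [pow_succ', M.cj_mul_left hx]

/-- A coprime element moving `e` into a coset which it fixes modulo `N` fixes it modulo `N`. -/
theorem fix_step (hT : IsPGroup p T) {g : M.G} (hg : (orderOf g).Coprime p) {N : Subgroup T} (hN : M.Inv N)
    {e : T} (he : e ∈ M.E) (h : M.cj g (M.cj g e * e⁻¹) * (M.cj g e * e⁻¹)⁻¹ ∈ N) :
    M.cj g e * e⁻¹ ∈ N := by
  haveI := M.inv_normal hN
  set π := QuotientGroup.mk' N with hπ
  set v := M.cj g e * e⁻¹ with hv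
  have hvE : v ∈ M.E := mul_mem (M.cj_mem he) (inv_mem he)
  have hgv : π (M.cj g v) = π v := by
    have h1 : π (M.cj g v * v⁻¹) = 1 := (QuotientGroup.eq_one_iff _).2 h
    rwa [map_mul, map_inv, mul_inv_eq_one] at h1
  have hit : ∀ m : ℕ, π (M.cj (g ^ m) e) = π v ^ m * π e ∧ π (M.cj (g ^ m) v) = π v := by
    intro m
    induction m with
    | zero => simp [M.cj_one_left he, M.cj_one_left hvE]
    | succ m ih =>
      obtain ⟨ih1, ih2⟩ := ih
      constructor
      · have e1 : M.cj (g ^ (m + 1)) e = M.cj (g ^ m) v * M.cj (g ^ m) e := by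
          rw [← M.cj_mul hvE he, pow_succ, M.cj_mul_left he]
          congr 1
          rw [hv, inv_mul_cancel_right]
        rw [e1, map_mul, ih1, ih2, pow_succ', mul_assoc]
      · rw [pow_succ, M.cj_mul_left hvE]
        have h2 : M.cj g v * v⁻¹ ∈ N := h
        have h3 : π (M.cj (g ^ m) (M.cj g v * v⁻¹)) = 1 := (QuotientGroup.eq_one_iff _).2 (hN.2 _ _ h2)
        rw [M.cj_mul (M.cj_mem hvE) (inv_mem hvE), M.cj_inv hvE, map_mul, map_inv, ih2, mul_inv_eq_one] at h3
        exact h3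
  have h1 := (hit (orderOf g)).1
  rw [pow_orderOf_eq_one, M.cj_one_left he, right_eq_mul] at h1
  exact (QuotientGroup.eq_one_iff _).1 (eq_one_of_coprime_pow (hT.to_quotient N) hg h1)

/-- A coprime element that is trivial modulo the Frattini subgroup is trivial. -/
theorem fix_of_phi (hT : IsPGroup p T) {g : M.G} (hg : (orderOf g).Coprime p) {X : Subgroup T} (hX : M.Inv X)
    (h : ∀ e ∈ X, M.cj g e * e⁻¹ ∈ phi p X) : ∀ e ∈ X, M.cj g e = e := by
  let α : MulAut X :=
    { toFun := fun e => ⟨M.cj g e, hX.2 g e e.2⟩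
      invFun := fun e => ⟨M.cj g⁻¹ e, hX.2 g⁻¹ e e.2⟩
      left_inv := fun e => Subtype.ext (M.cj_inv_cj (hX.1 e.2))
      right_inv := fun e => Subtype.ext (M.cj_cj_inv (hX.1 e.2))
      map_mul' := fun a b => Subtype.ext (M.cj_mul (hX.1 a.2) (hX.1 b.2)) }
  have hpow : ∀ (m : ℕ) (e : X), ((α ^ m) e : T) = M.cj (g ^ m) e := by
    intro m
    induction m with
    | zero => intro e; rw [pow_zero, pow_zero, MulAut.one_apply, M.cj_one_left (hX.1 e.2)]
    | succ m ih =>
      intro e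
      rw [pow_succ', MulAut.mul_apply, M.cj_pow_left g m (hX.1 e.2), ← ih e]
      rfl
  obtain ⟨k, hk⟩ := pow_eq_one_of_frattini (hT.to_subgroup X) α fun e => by
    obtain ⟨w, hw, hwe⟩ := phi_le_frattini hT X (h e e.2)
    have e1 : α e * e⁻¹ = w := Subtype.ext hwe.symm
    rw [e1]
    exact hw
  have hord : α ^ orderOf g = 1 := MulEquiv.ext fun e => Subtype.ext (by
    rw [hpow, pow_orderOf_eq_one, M.cj_one_left (hX.1 e.2), MulAut.one_apply])
  have h1 : α = 1 := orderOf_eq_one_iff.mp (Nat.eq_one_of_dvd_coprimes (hg.pow_right k)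
    (orderOf_dvd_of_pow_eq_one hord) (orderOf_dvd_of_pow_eq_one hk))
  intro e he
  exact congrArg (fun β : MulAut X => ((β ⟨e, he⟩ : X) : T)) h1

/-- A normal subgroup of the model whose coprime elements centralise `E` contains no element outside. -/
theorem mem_E_of_kernel (hT : IsPGroup p T) {K : Subgroup M.G} [K.Normal]
    (hK : ∀ g ∈ K, (orderOf g).Coprime p → ∀ e ∈ M.E, M.cj g e = e) {x : T} (hx : M.ι x ∈ K) : x ∈ M.E := by
  by_contra hxE
  have hKp : IsPGroup p K := by
    rintro ⟨g, hg⟩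
    obtain ⟨gp, gq, -, hgq, he, ⟨i, hi⟩, hcop⟩ := Cfsg.Lib.Transfer.exists_pPart p g
    have hq : gq ∈ K := (Subgroup.zpowers_le.mpr hg) hgq
    have hcen : gq ∈ M.E.map M.ι := M.cent (mem_centralizer_iff.2 (by
      rintro _ ⟨e, he', rfl⟩
      have h1 := M.ι_cj (g := gq) he'
      rw [hK gq hq hcop e he'] at h1
      exact eq_mul_inv_iff_mul_eq.1 h1))
    obtain ⟨e, -, hee⟩ := hcen
    obtain ⟨j, hj⟩ := hT e
    have hgq1 : gq = 1 := orderOf_eq_one_iff.mp (Nat.eq_one_of_dvd_coprimes (hcop.pow_right j)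
      dvd_rfl (orderOf_dvd_of_pow_eq_one (by rw [← hee, ← map_pow, hj, map_one])))
    rw [hgq1, mul_one] at he
    refine ⟨i, Subtype.ext ?_⟩
    show g ^ p ^ i = 1
    rw [← hi, he, pow_orderOf_eq_one]
  haveI := M.normal
  have hsup : IsPGroup p (K ⊔ M.E.map M.ι : Subgroup M.G) :=
    hKp.to_sup_of_normal_right ((hT.to_subgroup M.E).map _)
  have hrle : M.ι.range ≤ K ⊔ M.E.map M.ι := M.range_eq_of_mem hxE le_sup_right (mem_sup_left hx)
  have hTp : IsPGroup p M.ι.range := by
    intro a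
    obtain ⟨t, ht⟩ := a.2
    obtain ⟨k, hk⟩ := hT t
    exact ⟨k, Subtype.ext (by rw [SubgroupClass.coe_pow, ← ht, ← map_pow, hk, map_one]; rfl)⟩
  have heq : M.ι.range = K ⊔ M.E.map M.ι := (hTp.toSylow M.sylow).3 hsup hrle |>.symm
  exact M.notNormal (heq ▸ Subgroup.sup_normal K (M.E.map M.ι))

/-- No element outside stabilises an invariant series from `E` into the Frattini subgroup of its
second term. -/
theorem stab_phi (hT : IsPGroup p T) {x : T} {n : ℕ} (C : ℕ → Subgroup T) (h0 : C 0 = M.E) (h1n : 1 ≤ n)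
    (hn : C n ≤ phi p (C 1)) (hC : ∀ i ≤ n, M.Inv (C i))
    (hx : ∀ i < n, ∀ e ∈ C i, ⁅x, e⁆ ∈ C (i + 1)) : x ∈ M.E := by
  let K : Subgroup M.G :=
    { carrier := {g | ∀ i < n, ∀ e ∈ C i, M.cj g e * e⁻¹ ∈ C (i + 1)}
      one_mem' := fun i hi e he => by
        rw [M.cj_one_left ((hC i hi.le).1 he), mul_inv_cancel]; exact one_mem _
      mul_mem' := fun {a b} ha hb i hi e he => by
        have h1 := mul_mem (ha i hi _ ((hC i hi.le).2 b e he)) (hb i hi e he)
        rwa [← M.cj_mul_left ((hC i hi.le).1 he), ← mul_assoc, inv_mul_cancel_right] at h1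
      inv_mem' := fun {a} ha i hi e he => by
        have h1 := inv_mem (ha i hi _ ((hC i hi.le).2 a⁻¹ e he))
        rwa [M.cj_cj_inv ((hC i hi.le).1 he), mul_inv_rev, inv_inv] at h1 }
  haveI : K.Normal := ⟨fun k hk g i hi e he => by
    have he' := (hC i hi.le).2 g⁻¹ e he
    have h1 := (hC (i + 1) hi).2 g _ (hk i hi _ he')
    have hE := (hC i hi.le).1 he
    rwa [M.cj_mul (M.cj_mem (M.cj_mem hE)) (inv_mem (M.cj_mem hE)), M.cj_inv (M.cj_mem hE),
      M.cj_cj_inv hE, ← M.cj_mul_left (M.cj_mem hE), ← M.cj_mul_left hE] at h1⟩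
  refine M.mem_E_of_kernel hT (K := K) (fun g hg hcop e he => ?_) fun i hi e he => by
    rw [M.cj_range ((hC i hi.le).1 he)]; exact hx i hi e he
  have key : ∀ k i, 1 ≤ i → i ≤ n → n ≤ i + k → ∀ e ∈ C i, M.cj g e * e⁻¹ ∈ C n := by
    intro k
    induction k with
    | zero =>
      intro i _ hi hk e he
      obtain rfl : i = n := by omega
      exact mul_mem ((hC i le_rfl).2 g e he) (inv_mem he)
    | succ k ih =>
      intro i h1i hi hk e he
      rcases hi.eq_or_lt with rfl | hlt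
      · exact mul_mem ((hC i le_rfl).2 g e he) (inv_mem he)
      exact M.fix_step hT hcop (hC n le_rfl) ((hC i hi).1 he)
        (ih (i + 1) (by omega) hlt (by omega) _ (hg i hlt e he))
  have hfix := M.fix_of_phi hT hcop (hC 1 h1n) fun e he => hn (key n 1 le_rfl h1n (by omega) e he)
  have h2 := hg 0 (by omega) e (h0 ▸ he)
  refine mul_inv_eq_one.1 (mem_bot.1 (M.fix_step hT hcop M.inv_bot he ?_))
  rw [hfix _ h2, mul_inv_cancel]
  exact one_mem _

end Mdl

end Cfsg.Lib.Fusion.RankThreePair
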