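import Cfsg.Agent.Fusion.RankThreeTwo.Bar

/-!
The two possible shapes of the quotient by the core.
-/

set_option autoImplicit false
set_option linter.unusedSectionVars false
set_option linter.style.haveILetI false

namespace Cfsg.Lib.Fusion.RankThreePair

open Subgroup Cfsg.Lib.Fusion.RankThree
open scoped commutatorElement

universe u

variable {p : ℕ} [hp : Fact p.Prime] {T : Type u} [Group T] [Finite T]

theorem lg_zpowers (hT : IsPGroup p T) {x : T} (hx : x ^ p = 1) (hx1 : x ≠ 1) : lg p (zpowers x) = 1 :=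
  Nat.pow_right_injective hp.out.two_le (by
    show p ^ lg p (zpowers x) = p ^ 1
    rw [← card_lg hT, pow_one, card_zpowers_eq hx hx1])

theorem lg_pos (hT : IsPGroup p T) {A : Subgroup T} (h : A ≠ ⊥) : 1 ≤ lg p A := by
  have := lg_lt hT (bot_lt_iff_ne_bot.2 h)
  rw [lg_bot] at this
  exact this

/-- The centre of a nonabelian subgroup of order `p ^ 3` has order at most `p`. -/
theorem lg_centre_le (hT : IsPGroup p T) {E : Subgroup T} (hE : lg p E = 3)
    (hn : ¬ ∀ x ∈ E, ∀ y ∈ E, Commute x y) : lg p (E ⊓ centralizer (E : Set T)) ≤ 1 := by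
  set U := E ⊓ centralizer (E : Set T) with hU
  by_contra h
  have hUab : ∀ a ∈ U, ∀ b ∈ U, Commute a b := fun a ha b hb => (mem_centralizer_iff.1 ha.2 b hb.1).symm
  obtain ⟨e, he, heU⟩ : ∃ e ∈ E, e ∉ U := by
    by_contra h'
    push Not at h'
    exact hn fun x hx y hy => hUab x (h' x hx) y (h' y hy)
  have hle : U ⊔ zpowers e ≤ E := sup_le inf_le_left (zpowers_le.2 he)
  have heq : U ⊔ zpowers e = E := eq_of_lg hT hle (by
    have := lg_lt hT (lt_of_le_of_ne (le_sup_left : U ≤ U ⊔ zpowers e) fun e' =>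
      heU (e'.ge (mem_sup_right (mem_zpowers e))))
    omega)
  exact hn fun x hx y hy =>
    sup_pair_abelian hUab (fun u hu => mem_centralizer_iff.1 hu.2 e he) x (heq.ge hx) y (heq.ge hy)

theorem exists_orderOf_split {G : Type u} [Group G] [Finite G] (g : G) :
    ∃ e q : ℕ, orderOf g = p ^ e * q ∧ ¬ p ∣ q := by
  obtain ⟨e, q, hq, hm⟩ := Nat.exists_eq_pow_mul_and_not_dvd (orderOf_pos g).ne' p hp.out.ne_one
  exact ⟨e, q, hm, hq⟩

namespace Duo

variable (P : Duo p T) {D : Subgroup T}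

/-- The system of the two quotient models. -/
theorem exists_sys [D.Normal] (hD : P.Core D) (hT : IsPGroup p T) (Q : ∀ i, Quot (P.mdl i) D) :
    ∃ 𝔖 : Sys.{u, 0} p (T ⧸ D), 𝔖.Idx = Bool ∧ (∀ i j, (𝔖.mdl i).E = (𝔖.mdl j).E → i = j) ∧
      ∀ k, ∃ i, (𝔖.mdl k) = (Q i).q := by
  haveI : Finite (MulAut T) := Finite.of_injective (fun f : MulAut T => (f : T → T)) DFunLike.coe_injective
  set mk := QuotientGroup.mk' D
  have hEinj : ∀ i j, (Q i).q.E = (Q j).q.E → i = j := fun i j h => by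
    have h' : (P.mdl i).E = (P.mdl j).E := by rw [← (Q i).comap_E, ← (Q j).comap_E, h]
    cases i <;> cases j
    · rfl
    · exact absurd h' P.ne
    · exact absurd h' P.ne.symm
    · rfl
  refine ⟨{ Idx := Bool
            mdl := fun i => (Q i).q
            B := (P.bar hD.com).range
            inner := ?_
            norm := fun i g hg => ?_
            move := ?_
            core := ?_ }, rfl, hEinj, fun k => ⟨k, rfl⟩⟩
  · rintro _ ⟨b, rfl⟩ ⟨k, hk⟩
    obtain ⟨e, q, hm, hq⟩ := exists_orderOf_split (p := p) b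
    obtain ⟨s, hs⟩ := P.inner ((b : MulAut T) ^ q) (pow_mem b.2 q) ⟨e, by
      rw [← pow_mul, mul_comm, ← hm, ← SubgroupClass.coe_pow, pow_orderOf_eq_one]; rfl⟩
    have hbq : P.bar hD.com b ^ q = MulAut.conj (mk s) := MulEquiv.ext fun x => by
      obtain ⟨t, rfl⟩ := QuotientGroup.mk'_surjective D x
      rw [← map_pow, P.bar_mk, SubgroupClass.coe_pow, hs, map_mul, map_mul, map_inv]
      rfl
    obtain ⟨u, v, huv⟩ : IsCoprime (q : ℤ) ((p ^ k : ℕ) : ℤ) :=
      Nat.isCoprime_iff_coprime.2 (((hp.out.coprime_iff_not_dvd.2 hq).pow_left k).symm)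
    refine ⟨mk s ^ u, fun t => ?_⟩
    have h1 : P.bar hD.com b = MulAut.conj (mk s ^ u) := by
      rw [map_zpow, ← hbq, ← zpow_natCast, ← zpow_mul]
      conv_lhs => rw [← zpow_one (P.bar hD.com b), ← huv, zpow_add, mul_comm v, zpow_mul _ _ v,
        zpow_natCast _ (p ^ k), hk, one_zpow, mul_one, mul_comm u]
    rw [h1]
    rfl
  · obtain ⟨b, hb⟩ := P.exists_bar hD.com (Q i) hg
    exact ⟨_, ⟨b, rfl⟩, hb⟩
  · rintro _ ⟨b, rfl⟩ i
    have hmap : ∀ X : Subgroup T, (X.map mk).map (P.bar hD.com b).toMonoidHom =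
        (X.map (b : MulAut T).toMonoidHom).map mk := fun X => by
      rw [Subgroup.map_map, Subgroup.map_map]
      rfl
    refine ⟨i, ?_, fun Xb hX => ?_⟩
    · rw [(Q i).E_eq, hmap, P.map_E b.2]
    · have h1 := (Q i).inv_map (P.move _ b.2 i _ ((Q i).inv_comap hX))
      rwa [← hmap, Subgroup.map_comap_eq_self_of_surjective (QuotientGroup.mk'_surjective D)] at h1
  · intro R hR hRB
    have hle := hD.max (R.comap mk) ⟨fun i => (Q i).inv_comap (hR i), fun b hb => by
      refine Subgroup.eq_of_le_of_card_ge ?_ (Subgroup.card_map_of_injective (f := b.toMonoidHom) b.injective).ge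
      rintro _ ⟨t, ht, rfl⟩
      exact (hRB _ ⟨⟨b, hb⟩, rfl⟩).le (mem_map_of_mem (P.bar hD.com ⟨b, hb⟩).toMonoidHom (show mk t ∈ R from ht))⟩
    refine eq_bot_iff.2 fun x hx => ?_
    obtain ⟨t, rfl⟩ := QuotientGroup.mk'_surjective D x
    exact mem_bot.2 ((QuotientGroup.eq_one_iff t).2 (hle hx))

/-- The quotient by the core is extraspecial of order `p ^ 3`. -/
def IsSmall (D : Subgroup T) : Prop := lg p P.H = lg p D + 1 ∧ ∀ i, P.X D i = D

/-- The quotient by the core has the shape of `Sp₄(p)`, with the subgroup `i` a pearl. -/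
structure IsBig (D : Subgroup T) [D.Normal] (i : Bool) : Prop where
  lg_H : lg p P.H = lg p D + 2
  lg_X : lg p (P.X D i) = lg p D + 1
  shape : Shape p (T ⧸ D)
  pearl : IsPearlShape p ((P.mdl i).E.map (QuotientGroup.mk' D))
  comm_mem : ∀ a ∈ (P.mdl (!i)).E, ∀ b ∈ (P.mdl (!i)).E, ⁅a, b⁆ ∈ D
  pow_mem : ∀ a ∈ (P.mdl (!i)).E, a ^ p ∈ D

/-- What the quotient by the core gives. -/
structure Facts (D : Subgroup T) [D.Normal] : Prop where
  not_inv : ∀ i, ¬ (P.mdl i).Inv P.H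
  H_le : P.H ≤ ⁅(⊤ : Subgroup T), ⊤⁆ ⊔ D
  cases : P.IsSmall D ∨ ∃ i, P.IsBig D i

theorem facts [D.Normal] (hD : P.Core D) (hT : IsPGroup p T) (hp2 : p ≠ 2) (hr : RankThreeLE p T) :
    P.Facts D := by
  set mk := QuotientGroup.mk' D with hmk
  let Q : ∀ i, Quot (P.mdl i) D := fun i =>
    ((P.mdl i).nonempty_quot hT D (hD.com.1 i) hr (P.good hD hT hp2 hr i)).some
  have hTq := hT.to_quotient D
  have hDH := hD.com.le_H P
  set H := P.H
  set Hb := H.map mk with hHb
  haveI : Hb.Normal := Subgroup.Normal.map P.H_normal mk (QuotientGroup.mk'_surjective D)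
  have hlgH : lg p Hb + lg p D = lg p H := lg_map_mk hT D hDH
  have hlgT : lg p (⊤ : Subgroup (T ⧸ D)) + lg p D = lg p H + 2 := by
    have h1 := lg_map_mk hT D (A := ⊤) le_top
    rw [Subgroup.map_top_of_surjective _ (QuotientGroup.mk'_surjective D), P.lg_top hT false, P.lg_E hT] at h1
    exact h1
  have hlgE : ∀ i, lg p (Q i).q.E + lg p D = lg p H + 1 := fun i => by
    rw [(Q i).E_eq, ← P.lg_E hT i]
    exact lg_map_mk hT D (hD.com.1 i).1
  have hHbE : ∀ i, Hb ≤ (Q i).q.E := fun i => (Q i).E_eq ▸ Subgroup.map_mono (P.H_le i)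
  have hDH1 : lg p D + 1 ≤ lg p H := lg_lt hT (lt_of_le_of_ne hDH (P.D_ne_H hD hT hr))
  have hcom : ∀ s t : T ⧸ D, ⁅s, t⁆ ∈ Hb := fun s t => by
    obtain ⟨s, rfl⟩ := QuotientGroup.mk'_surjective D s
    obtain ⟨t, rfl⟩ := QuotientGroup.mk'_surjective D t
    exact ⟨⁅s, t⁆, P.comm_mem_H s t, map_commutatorElement mk s t⟩
  have hout : ∀ i, ∃ x, mk x ∈ (Q (!i)).q.E ∧ mk x ∉ (Q i).q.E := fun i => by
    obtain ⟨x, hx, hxi⟩ := P.exists_mem (!i)
    rw [Bool.not_not] at hxi
    exact ⟨x, (Q _).mem_E hx, fun h => hxi ((Q i).comap_E.le h)⟩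
  have hinvH : ∀ i, (P.mdl i).Inv H → (Q i).q.Inv Hb := fun i h => (Q i).inv_map h
  set R := ⁅(⊤ : Subgroup T), ⊤⁆ ⊔ D
  haveI : R.Normal := @Subgroup.sup_normal _ _ _ _ inferInstance ‹D.Normal›
  have hRH : R ≤ H := sup_le (Subgroup.commutator_le.2 fun s _ t _ => P.comm_mem_H s t) hDH
  have hR : ∀ s t : T, ⁅s, t⁆ ∈ R := fun s t =>
    mem_sup_left (commutator_mem_commutator (mem_top s) (mem_top t))
  by_cases h3 : lg p H = lg p D + 1
  · have hHc : Hb ≤ center (T ⧸ D) := Cfsg.Lib.PGroups.le_center_of_card_eq_prime hTq (by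
      rw [card_lg hTq, show lg p Hb = 1 by omega, pow_one])
    have hni : ∀ i, ¬ (P.mdl i).Inv H := fun i hi => by
      obtain ⟨x, -, hxi⟩ := hout i
      exact hxi ((Q i).q.stab2 hTq (hinvH i hi) (fun e _ => hcom _ e) fun e he =>
        commutatorElement_eq_one_iff_commute.2 (mem_center_iff.1 (hHc he) (mk x)))
    refine ⟨hni, ?_, Or.inl ⟨h3, fun i => ?_⟩⟩
    · by_contra hle
      have hRD : R = D := by
        symm
        refine eq_of_lg hT le_sup_right ?_
        have := lg_lt hT (lt_of_le_of_ne hRH fun e => hle e.ge)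
        omega
      obtain ⟨x, -, hxi⟩ := hout false
      refine hxi ((Q false).q.centralizer_E_le (mem_centralizer_iff.2 fun e _ => ?_))
      obtain ⟨e, rfl⟩ := QuotientGroup.mk'_surjective D e
      rw [← commutatorElement_eq_one_iff_mul_comm, ← map_commutatorElement]
      exact (QuotientGroup.eq_one_iff _).2 (hRD.le (hR e x))
    · symm
      refine eq_of_lg hT le_sup_right ?_
      have hle : P.X D i ≤ H := P.X_le_H hD i
      have : lg p (P.X D i) + 1 ≤ lg p H := lg_lt hT (lt_of_le_of_ne hle fun e => hni i (by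
        have h := P.inv_X hD i; rwa [e] at h))
      omega
  -- the shape of the quotient
  obtain ⟨𝔖, hIdx, hinj, hQ⟩ := P.exists_sys hD hT Q
  have hrq := rankThreeLE_quotient hr D
  obtain ⟨hsh, k, hk⟩ := shape_of_sys hTq hp2 hrq (fun hc => absurd
      (Nat.pow_right_injective hp.out.two_le (hc.symm.trans ((Subgroup.card_top (G := T ⧸ D)).symm.trans
        (card_lg hTq ⊤)))) (by omega)) (by
    obtain ⟨x, -, hx⟩ := hout false
    exact ⟨⟨mk x, 1, fun e => hx (by rw [e]; exact one_mem _)⟩⟩) 𝔖 hinj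
  obtain ⟨i, hi⟩ := hQ k
  rw [hi] at hk
  have hlgT4 : lg p (⊤ : Subgroup (T ⧸ D)) = 4 := by
    have h1 : Nat.card (⊤ : Subgroup (T ⧸ D)) = p ^ 4 := Subgroup.card_top.trans hsh.1
    rw [card_lg hTq] at h1
    exact Nat.pow_right_injective hp.out.two_le h1
  have hH2 : lg p H = lg p D + 2 := by omega
  have hE3 : ∀ j, lg p (Q j).q.E = 3 := fun j => by have := hlgE j; omega
  obtain ⟨W, hWn, hWc, hWab, hWp, b, hbW, -, v, hv, hbv⟩ := hsh.2
  have hkn : ¬ ∀ x ∈ (Q i).q.E, ∀ y ∈ (Q i).q.E, Commute x y := fun h => by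
    obtain ⟨-, -, x, hx, y, hy, hxy⟩ := hk
    exact hxy (h x hx y hy)
  have hVZ : ∀ j, (¬ ∀ x ∈ (Q j).q.E, ∀ y ∈ (Q j).q.E, Commute x y) → (Q j).q.V = zOmega p (T ⧸ D) :=
    fun j hn => by
      refine (eq_of_lg hTq (Q j).q.zOmega_le_V ?_).symm
      have h1 : lg p (Q j).q.V ≤ lg p ((Q j).q.E ⊓ centralizer ((Q j).q.E : Set (T ⧸ D))) :=
        lg_mono fun w hw => ⟨(Q j).q.inv_V.1 hw, mem_centralizer_iff.2 fun e he => ((((Q j).q.V_spec w hw).1 e he).eq).symm⟩
      have h2 := lg_centre_le hTq (hE3 j) hn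
      have h3 := one_lt_card_zOmega hTq (Q j).q
      rw [card_lg hTq] at h3
      have h4 := (Nat.pow_le_pow_iff_right hp.out.one_lt).1 ((pow_one p).le.trans h3)
      omega
  set Ej := (Q (!i)).q.E
  have hjab : ∀ x ∈ Ej, ∀ y ∈ Ej, Commute x y := by
    by_contra hn
    have hall : ∀ j, (Q j).q.V = zOmega p (T ⧸ D) := fun j => by
      rcases Bool.eq_false_or_eq_true (j == i) with h | h
      · obtain rfl : j = i := by simpa using h
        exact hVZ _ hkn
      · obtain rfl : j = !i := by cases i <;> cases j <;> simp_all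
        exact hVZ _ hn
    have hz : zOmega p (T ⧸ D) = ⊥ := 𝔖.core _ (fun k' => by
      obtain ⟨j, hj⟩ := hQ k'
      rw [hj, ← hall j]
      exact (Q j).q.inv_V) fun β _ => Sys.char_zOmega β
    obtain ⟨z, -, hz1, hz2⟩ := exists_mem_zOmega hTq (N := (⊤ : Subgroup (T ⧸ D))) (hN := fun e => by
      rw [e, lg_bot] at hlgT4
      omega)
    exact hz2 (mem_bot.1 (hz ▸ hz1))
  haveI := (Q (!i)).q.E_normal
  have hWE : W = Ej := by
    by_contra hne
    obtain ⟨w, hw, hwE⟩ : ∃ w ∈ W, w ∉ Ej := by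
      by_contra h
      push Not at h
      exact hne (Subgroup.eq_of_le_of_card_ge h (by rw [hWc, card_lg hTq Ej, hE3]))
    have hcenW : ∀ c ∈ W, c ∈ Ej → c ∈ center (T ⧸ D) := fun c hcW hcE => mem_center_iff.2 fun t => by
      have hle : Ej ⊔ zpowers w ≤ centralizer {c} := sup_le
        (fun e he => mem_centralizer_singleton_iff.2 (hjab e he c hcE).eq)
        (zpowers_le.2 (mem_centralizer_singleton_iff.2 (hWab w hw c hcW).eq))
      exact mem_centralizer_singleton_iff.1 (hle (((Q (!i)).q.eq_top_of_lt le_sup_left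
        (mem_sup_right (mem_zpowers w)) hwE).ge (mem_top t)))
    have hc : ⁅b, v⁆ ∈ center (T ⧸ D) := hcenW _
      (mul_mem (hWn.conj_mem v hv b) (inv_mem hv)) ((Q (!i)).q.commutator_mem_E b v)
    exact hbv (commutatorElement_eq_one_iff_mul_comm.2 (mem_center_iff.1 hc b))
  -- `H` is the commutator subgroup modulo the core
  have hHR : H ≤ R := by
    by_contra hle
    haveI : R.Normal := ‹_›
    have h1 := lg_lt hT (lt_of_le_of_ne hRH fun e => hle e.ge)
    obtain ⟨b, rfl⟩ := QuotientGroup.mk'_surjective D b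
    obtain ⟨v, rfl⟩ := QuotientGroup.mk'_surjective D v
    refine hbv ?_
    rw [← map_commutatorElement, ← map_commutatorElement]
    exact (QuotientGroup.eq_one_iff _).2 (comm_le_of_lg hT (show D ≤ R from le_sup_right) (by omega) b (hR b v))
  -- `H` is not central
  have hHnc : ¬ Hb ≤ center (T ⧸ D) := fun h =>
    hbv (commutatorElement_eq_one_iff_mul_comm.2 (mem_center_iff.1 (h (hcom b v)) b))
  have hHb2 : lg p Hb = 2 := by omega
  have hnii : ¬ (P.mdl i).Inv H := fun hi => by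
    obtain ⟨x, -, hxi⟩ := hout i
    set N := ((Q i).q.E ⊓ centralizer ((Q i).q.E : Set (T ⧸ D))) ⊓ Hb
    have hNi := (Q i).q.inv_inf ((Q i).q.inv_centralizer (Q i).q.inv_E) (hinvH i hi)
    haveI : N.Normal := (Q i).q.inv_normal hNi
    have hN1 : lg p N ≤ 1 := (lg_mono inf_le_left).trans (lg_centre_le hTq (hE3 i) hkn)
    have hN0 : 1 ≤ lg p N := lg_pos hTq fun e => by
      obtain ⟨z, hz, hzZ, hz1⟩ := exists_mem_zOmega hTq (N := Hb) fun e' => by
        rw [e', lg_bot] at hHb2; omega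
      refine hz1 (mem_bot.1 (e ▸ ⟨⟨(Q i).q.zOmega_le hzZ, ?_⟩, hz⟩))
      exact mem_centralizer_iff.2 fun w _ => mem_center_iff.1 hzZ.1 w
    have hNc : N ≤ center (T ⧸ D) := Cfsg.Lib.PGroups.le_center_of_card_eq_prime hTq (by
      rw [card_lg hTq, show lg p N = 1 by omega, pow_one])
    exact hxi ((Q i).q.stab3 hTq (hinvH i hi) hNi (fun e _ => hcom _ e)
      (fun e he => comm_le_of_lg hTq (show N ≤ Hb from inf_le_right) (by omega) _ he)
      fun e he => commutatorElement_eq_one_iff_mul_comm.2 (mem_center_iff.1 (hNc he) _))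
  have hnij : ¬ (P.mdl (!i)).Inv H := fun hj => by
    set q := (Q (!i)).q
    obtain ⟨x, hxi, hxj⟩ := hout (!i)
    rw [Bool.not_not] at hxi
    set ub := mk x
    have hj' := hinvH _ hj
    have hgen : ∀ t, ∃ r : ℤ, ∃ a ∈ Ej, t = ub ^ r * a := fun t => exists_decomp q hxj t
    set Zb := Hb ⊓ center (T ⧸ D)
    haveI : Zb.Normal := Subgroup.normal_inf_normal _ _
    have hZlt : lg p Zb + 1 ≤ lg p Hb := lg_lt hTq (lt_of_le_of_ne inf_le_left fun e => hHnc (inf_eq_left.1 e))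
    obtain ⟨c, hcH, hcZ, hc1⟩ := exists_mem_zOmega hTq (N := Hb) fun e' => by
      rw [e', lg_bot] at hHb2; omega
    have hZc : zpowers c = Zb := eq_of_lg hTq (zpowers_le.2 ⟨hcH, hcZ.1⟩)
      (by rw [lg_zpowers hTq hcZ.2 hc1]; omega)
    have hHZ : ∀ t : T ⧸ D, ∀ h ∈ Hb, ⁅t, h⁆ ∈ Zb := fun t h hh => by
      refine comm_le_of_lg hTq (show Zb ≤ Hb from inf_le_left) ?_ t hh
      rw [← hZc, lg_zpowers hTq hcZ.2 hc1, hHb2]
    obtain ⟨h₁, hh₁, hh₁'⟩ : ∃ h ∈ Hb, ⁅ub, h⁆ ≠ 1 := by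
      by_contra h
      push Not at h
      refine hHnc fun a ha => mem_center_iff.2 fun t => ?_
      obtain ⟨r, w, hw, rfl⟩ := hgen t
      exact ((Commute.zpow_left (commutatorElement_eq_one_iff_commute.1 (h a ha)) r).mul_left
        (hjab w hw a (hHbE _ ha))).eq
    have hfix : ¬ q.Inv Zb := fun h => hxj (q.stab3 hTq hj' h (fun e _ => hcom _ e)
      (fun e he => hHZ ub e he)
      fun e he => commutatorElement_eq_one_iff_mul_comm.2 (mem_center_iff.1 he.2 ub))
    obtain ⟨N, C, PL⟩ := q.exists_plane hTq hj' (fun a ha e he => hjab a (hHbE _ ha) e he)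
      (fun a ha => hWp a (hWE.ge (hHbE _ ha))) (Or.inl (by rw [card_lg hTq, hHb2])) hcZ.1
      (fun a ha => hZc.ge (hHZ ub a ha)) ⟨h₁, hh₁, hh₁'⟩ hfix
    have hN : N = Hb := Subgroup.eq_of_le_of_card_ge PL.N_le (by rw [card_lg hTq Hb, hHb2, PL.card_N])
    obtain ⟨g, hgL, hgn, hgN, -⟩ := PL.neg
    obtain ⟨β0, hβ⟩ := P.exists_bar hD.com (Q (!i)) hgn
    set β := P.bar hD.com β0
    have hβj : ∀ e ∈ Ej, β e = q.cj g e := fun e he => (q.cj_eq he (hβ e)).symm
    have hβH : ∀ a ∈ Hb, β a = a⁻¹ := fun a ha => (hβj a (hHbE _ ha)).trans (hgN a (hN.ge ha))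
    obtain ⟨r, a, ha, hβu⟩ := hgen (β ub)
    obtain ⟨e, he, heH⟩ : ∃ e ∈ Ej, e ∉ Hb := exists_not_mem_of_card (A := Hb) (B := Ej) (by
      rw [card_lg hTq Hb, card_lg hTq Ej, hHb2, hE3]
      exact Nat.pow_lt_pow_right hp.out.one_lt (by norm_num))
    have hβe : (β e * e⁻¹) ∈ Hb := by
      rw [hβj e he]
      exact q.L_trivial hj' q.inv_E (fun t w _ => hcom t w) g hgL e he
    set κ := QuotientGroup.mk' (center (T ⧸ D))
    have hκ1 : ∀ {z : T ⧸ D}, κ z = 1 ↔ z ∈ center (T ⧸ D) := fun {z} => QuotientGroup.eq_one_iff z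
    have hκH : ∀ t : T ⧸ D, ∀ h ∈ Hb, Commute (κ t) (κ h) := fun t h hh => by
      rw [← commutatorElement_eq_one_iff_commute, ← map_commutatorElement, hκ1]
      exact (hHZ t h hh).2
    have hde : κ ⁅ub, e⁆ ≠ 1 := fun h0 => by
      have hcomm_ue : Commute (κ ub) (κ e) := by
        rwa [← commutatorElement_eq_one_iff_commute, ← map_commutatorElement]
      have hEj : Ej = zpowers e ⊔ Hb := (eq_of_lg hTq (sup_le (zpowers_le.2 he) (hHbE _)) (by
        have := lg_lt hTq (lt_of_le_of_ne (le_sup_right : Hb ≤ zpowers e ⊔ Hb) fun e' =>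
          heH (e'.ge (mem_sup_left (mem_zpowers e))))
        have : lg p Ej = 3 := hE3 (!i)
        omega)).symm
      have hvE : v ∈ Ej := hWE.le hv
      rw [hEj] at hvE
      obtain ⟨_, ⟨l, rfl⟩, h, hh, rfl⟩ := mem_sup_of_normal_right.1 hvE
      obtain ⟨r', w, hw, rfl⟩ := hgen b
      have hcen : ⁅ub ^ r' * w, e ^ l * h⁆ ∈ center (T ⧸ D) := by
        rw [← hκ1, map_commutatorElement, commutatorElement_eq_one_iff_commute, map_mul, map_mul,
          map_zpow, map_zpow]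
        refine ((hcomm_ue.zpow_zpow r' l).mul_right ((hκH ub h hh).zpow_left r')).mul_left
          (Commute.mul_right ?_ (hκH w h hh))
        exact ((hjab w hw e he).map κ).zpow_right l
      exact hbv (commutatorElement_eq_one_iff_mul_comm.2 (mem_center_iff.1 hcen _))
    have hfin : ∀ {z : (T ⧸ D) ⧸ center (T ⧸ D)}, z ^ p = 1 → z ≠ 1 → z⁻¹ = z ^ r → (p : ℤ) ∣ r + 1 :=
      fun hz hz1 he' => (zpow_eq_one_iff hz hz1 _).1 (by rw [zpow_add_one, ← he', inv_mul_cancel])
    have hd : ⁅ub, e⁆ ∈ Hb := hcom _ _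
    have hκd : κ ⁅ub, e⁆ ∈ center ((T ⧸ D) ⧸ center (T ⧸ D)) := mem_center_iff.2 fun z => by
      obtain ⟨z, rfl⟩ := QuotientGroup.mk'_surjective _ z
      exact hκH z _ hd
    have hd1 : (p : ℤ) ∣ r + 1 := by
      refine hfin (by rw [← map_pow, hWp _ (hWE.ge (hHbE _ hd)), map_one]) hde ?_
      rw [← map_inv, ← hβH _ hd, map_commutatorElement β, hβu,
        show β e = (β e * e⁻¹) * e by rw [inv_mul_cancel_right], map_commutatorElement κ, map_mul κ (ub ^ r),
        map_mul κ (β e * e⁻¹), Cfsg.Lib.PGroups.mul_left_commutator,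
        commutatorElement_eq_one_iff_commute.2 ((hκH a _ hβe).mul_right ((hjab a ha e he).map κ)),
        mul_one, mul_inv_cancel, one_mul, map_zpow,
        Cfsg.Lib.PGroups.mul_right_commutator,
        commutatorElement_eq_one_iff_commute.2 ((hκH ub _ hβe).zpow_left r), one_mul]
      rw [map_commutatorElement] at hκd
      rw [commutator_zpow_left' hκd, map_commutatorElement, mem_center_iff.1 (zpow_mem hκd r), mul_inv_cancel_right]
    have hd2 : (p : ℤ) ∣ r - 1 := by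
      have hdc : ⁅ub, h₁⁆ ∈ center (T ⧸ D) := (hHZ ub h₁ hh₁).2
      refine (zpow_eq_one_iff (hWp _ (hWE.ge (hHbE _ (hcom _ _)))) hh₁' _).1 ?_
      have h1 := hβH _ (hcom ub h₁)
      rw [map_commutatorElement β, hβu, hβH h₁ hh₁, Cfsg.Lib.PGroups.mul_left_commutator,
        commutatorElement_eq_one_iff_commute.2 ((hjab a ha h₁ (hHbE _ hh₁)).inv_right), mul_one, mul_inv_cancel,
        one_mul, ← zpow_neg_one h₁] at h1
      have hdc' : ⁅ub ^ r, h₁⁆ ∈ center (T ⧸ D) := by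
        rw [commutator_zpow_left' hdc]; exact zpow_mem hdc r
      rw [commutator_zpow_right hdc', zpow_neg_one, inv_inj, commutator_zpow_left' hdc] at h1
      rw [zpow_sub_one, h1, mul_inv_cancel]
    have h2 := dvd_sub hd1 hd2
    rw [show r + 1 - (r - 1) = ((2 : ℕ) : ℤ) by push_cast; ring, Int.natCast_dvd_natCast] at h2
    exact hp2 ((Nat.prime_dvd_prime_iff_eq hp.out Nat.prime_two).1 h2)
  have hnot : ∀ j, ¬ (P.mdl j).Inv H := fun j => by
    cases i <;> cases j <;> first | exact hnii | exact hnij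
  refine ⟨hnot, hHR, Or.inr ⟨i, ?_⟩⟩
  have hmkD : ∀ {a : T}, mk a = 1 → a ∈ D := fun h => (QuotientGroup.eq_one_iff _).1 h
  refine ⟨hH2, ?_, hsh, (Q i).E_eq ▸ hk, fun a ha b hb => hmkD ?_, fun a ha => hmkD ?_⟩
  · have hle : P.X D i ≤ H := P.X_le_H hD i
    have h1 : lg p (P.X D i) + 1 ≤ lg p H := lg_lt hT (lt_of_le_of_ne hle fun e => hnii (by
      have h := P.inv_X hD i; rwa [e] at h))
    have h2 : lg p D + 1 ≤ lg p (P.X D i) := lg_lt hT (lt_of_le_of_ne (le_sup_right : D ≤ P.X D i) fun e => hkn (fun x hx y hy => by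
      obtain ⟨x, rfl⟩ := QuotientGroup.mk'_surjective D x
      obtain ⟨y, rfl⟩ := QuotientGroup.mk'_surjective D y
      rw [← commutatorElement_eq_one_iff_commute, ← map_commutatorElement]
      exact (QuotientGroup.eq_one_iff _).2 (e.ge (mem_sup_left (mem_sup_left
        (commutator_mem_commutator ((Q i).comap_E.le hx) ((Q i).comap_E.le hy)))))))
    omega
  · rw [map_commutatorElement]
    exact commutatorElement_eq_one_iff_commute.2 (hjab _ ((Q _).mem_E ha) _ ((Q _).mem_E hb))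
  · rw [map_pow]
    exact hWp _ (hWE.ge ((Q _).mem_E ha))

end Duo

end Cfsg.Lib.Fusion.RankThreePair
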